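import Groth.Agent.ArtfunDeform.ArtBasic
import Groth.Agent.FlatMor2.Deform

/-!
Deformations of a `k`-algebra over objects of `Art Λ k`, algebraically.

* `DefAlg B₀ A`: a flat `A`-algebra with an identification of its reduction with `B₀`;
* `DefAlg.Map g D D'`: a ring map over `g : A ⟶ A'` compatible with the reductions; over `𝟙 A` it is bijective;
* `DefAlg.baseChange`, with its universal map; kernels along surjections of the base.
-/

set_option linter.style.haveILetI false
set_option linter.style.longLine false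
set_option linter.unusedSectionVars false

noncomputable section

universe u

open CategoryTheory TensorProduct

namespace Groth.ArtfunDeform

open ArtFun

local notation "𝔪" => IsLocalRing.maximalIdeal

/-- A map into a flat module which is bijective modulo a nilpotent ideal is bijective. -/
theorem bijective_of_mod_nilpotent {R N N' : Type u} [CommRing R] [AddCommGroup N] [Module R N]
    [AddCommGroup N'] [Module R N'] [Module.Flat R N'] {J : Ideal R} (hJ : IsNilpotent J) (f : N →ₗ[R] N')
    (hs : (⊤ : Submodule R N') ≤ LinearMap.range f ⊔ J • ⊤)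
    (hk : ∀ x, f x ∈ J • (⊤ : Submodule R N') → x ∈ J • (⊤ : Submodule R N)) : Function.Bijective f := by
  have hsurj : Function.Surjective f := fun y =>
    Groth.FlatMor2.le_of_le_sup_smul_of_isNilpotent hJ hs (Submodule.mem_top (x := y))
  refine ⟨LinearMap.ker_eq_bot.1 (eq_bot_iff.2 ?_), hsurj⟩
  refine Groth.FlatMor2.le_of_le_sup_smul_of_isNilpotent hJ (fun x hx => Submodule.mem_sup_right ?_)
  refine Groth.FlatMor2.inf_smul_top_le_smul_of_flat f hsurj J ⟨hx, hk x ?_⟩
  rw [show f x = 0 from hx]
  exact zero_mem _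

/-- The kernel of `N → A' ⊗ N` for a surjection `A → A'`. -/
theorem mem_smul_of_one_tmul_eq_zero {A A' N : Type u} [CommRing A] [CommRing A'] [Algebra A A']
    (hs : Function.Surjective (algebraMap A A')) [AddCommGroup N] [Module A N] {d : N}
    (hd : (1 : A') ⊗ₜ[A] d = 0) : d ∈ RingHom.ker (algebraMap A A') • (⊤ : Submodule A N) := by
  let K := RingHom.ker (algebraMap A A')
  have hex : Function.Exact K.subtype (Algebra.linearMap A A') := fun a =>
    ⟨fun h => ⟨⟨a, h⟩, rfl⟩, fun ⟨y, hy⟩ => hy ▸ y.2⟩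
  have h1 : (Algebra.linearMap A A').rTensor N ((1 : A) ⊗ₜ d) = 0 := by
    rw [LinearMap.rTensor_tmul, Algebra.linearMap_apply, map_one, hd]
  obtain ⟨z, hz⟩ := (rTensor_exact N hex hs _).1 h1
  have key : ∀ w : K ⊗[A] N, TensorProduct.lid A N (K.subtype.rTensor N w) ∈ K • (⊤ : Submodule A N) := fun w => by
    induction w using TensorProduct.induction_on with
    | zero => simp
    | add a b ha hb => rw [map_add, map_add]; exact add_mem ha hb
    | tmul a n =>
      rw [LinearMap.rTensor_tmul, TensorProduct.lid_tmul]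
      exact Submodule.smul_mem_smul a.2 trivial
  have := key z
  rwa [hz, TensorProduct.lid_tmul, one_smul] at this

variable {Λ k : Type u} [CommRing Λ] [Field k] [Algebra Λ k]

variable (B₀ : Type u) [CommRing B₀] [Algebra k B₀]

/-- A deformation of the `k`-algebra `B₀` over `A`. -/
structure DefAlg (A : Art Λ k) : Type (u + 1) where
  /-- The total ring. -/
  carrier : Type u
  [commRing : CommRing carrier]
  [algebra : Algebra A carrier]
  flat : Module.Flat A carrier
  /-- The reduction. -/
  π : carrier →+* B₀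
  π_surjective : Function.Surjective π
  ker_π : RingHom.ker π = (𝔪 A).map (algebraMap A carrier)
  π_algebraMap : ∀ a, π (algebraMap A carrier a) = algebraMap k B₀ (A.res a)

namespace DefAlg

attribute [instance] DefAlg.commRing DefAlg.algebra

variable {B₀} {A A' A'' : Art Λ k}

instance (D : DefAlg B₀ A) : Module.Flat A D.carrier := D.flat

lemma mem_smul_top_iff (D : DefAlg B₀ A) (I : Ideal A) (x : D.carrier) :
    x ∈ I • (⊤ : Submodule A D.carrier) ↔ x ∈ I.map (algebraMap A D.carrier) := by
  rw [Ideal.smul_top_eq_map]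
  rfl

lemma π_eq_zero_iff (D : DefAlg B₀ A) (x : D.carrier) :
    D.π x = 0 ↔ x ∈ 𝔪 A • (⊤ : Submodule A D.carrier) := by
  rw [D.mem_smul_top_iff, ← D.ker_π, RingHom.mem_ker]

/-- Maps of deformations over a morphism of the bases. -/
structure Map (g : A ⟶ A') (D : DefAlg B₀ A) (D' : DefAlg B₀ A') where
  /-- The ring map. -/
  hom : D.carrier →+* D'.carrier
  hom_algebraMap : ∀ a, hom (algebraMap A D.carrier a) = algebraMap A' D'.carrier (g a)
  π_hom : ∀ b, D'.π (hom b) = D.π b

/-- Identity. -/
def Map.id (D : DefAlg B₀ A) : Map (𝟙 A) D D := ⟨RingHom.id _, fun _ => rfl, fun _ => rfl⟩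

/-- Composition. -/
def Map.comp {g : A ⟶ A'} {g' : A' ⟶ A''} {D : DefAlg B₀ A} {D' : DefAlg B₀ A'} {D'' : DefAlg B₀ A''}
    (ψ : Map g' D' D'') (φ : Map g D D') : Map (g ≫ g') D D'' :=
  ⟨ψ.hom.comp φ.hom, fun a => by
    rw [RingHom.comp_apply, φ.hom_algebraMap, ψ.hom_algebraMap]
    rfl, fun b => by rw [RingHom.comp_apply, ψ.π_hom, φ.π_hom]⟩

/-- A map over the identity as a linear map. -/
def Map.toLinearMap {D D' : DefAlg B₀ A} (φ : Map (𝟙 A) D D') : D.carrier →ₗ[A] D'.carrier where
  toFun := φ.hom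
  map_add' := map_add _
  map_smul' a x := by
    rw [RingHom.id_apply, Algebra.smul_def, map_mul, φ.hom_algebraMap, Algebra.smul_def]
    rfl

/-- A map over the identity is bijective. -/
theorem Map.bijective {D D' : DefAlg B₀ A} (φ : Map (𝟙 A) D D') : Function.Bijective φ.hom := by
  refine bijective_of_mod_nilpotent (isNilpotent_maximalIdeal A) φ.toLinearMap (fun y _ => ?_) fun x hx => ?_
  · obtain ⟨x, hx⟩ := D.π_surjective (D'.π y)
    refine Submodule.mem_sup.2 ⟨φ.hom x, ⟨x, rfl⟩, y - φ.hom x, ?_, add_sub_cancel _ _⟩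
    rw [← π_eq_zero_iff, map_sub, φ.π_hom, hx, sub_self]
  · rw [← π_eq_zero_iff] at hx ⊢
    exact (φ.π_hom x).symm.trans hx

/-- The inverse of a map over the identity. -/
def Map.symm {D D' : DefAlg B₀ A} (φ : Map (𝟙 A) D D') : Map (𝟙 A) D' D where
  hom := (RingEquiv.ofBijective φ.hom φ.bijective).symm.toRingHom
  hom_algebraMap a := (RingEquiv.symm_apply_eq _).2 (φ.hom_algebraMap a).symm
  π_hom b := by
    conv_rhs => rw [← (RingEquiv.ofBijective φ.hom φ.bijective).apply_symm_apply b]
    exact (φ.π_hom _).symm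

/-- `k → B₀` seen over the base. -/
@[reducible] def algebraResidue (A : Art Λ k) : Algebra A B₀ :=
  ((algebraMap k B₀).comp A.res.toRingHom).toAlgebra

section BaseChange

variable (g : A ⟶ A') (D : DefAlg B₀ A)

/-- The carrier of the base change. -/
abbrev bcCarrier : Type u :=
  letI := g.toAlgHom.toRingHom.toAlgebra
  A' ⊗[A] D.carrier

/-- Base change. -/
def baseChange : DefAlg B₀ A' :=
  letI := g.toAlgHom.toRingHom.toAlgebra
  letI := algebraResidue (B₀ := B₀) A
  let r : A' →ₐ[A] B₀ :=
    { (algebraMap k B₀).comp A'.res.toRingHom with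
      commutes' := fun a => congrArg (algebraMap k B₀) (Art.res_app g a) }
  let p : D.carrier →ₐ[A] B₀ := { D.π with commutes' := D.π_algebraMap }
  let Φ : A' ⊗[A] D.carrier →ₐ[A] B₀ := Algebra.TensorProduct.lift r p fun _ _ => mul_comm _ _
  { carrier := A' ⊗[A] D.carrier
    flat := inferInstance
    π := Φ.toRingHom
    π_surjective := fun b => by
      obtain ⟨d, hd⟩ := D.π_surjective b
      refine ⟨(1 : A') ⊗ₜ d, ?_⟩
      change Φ ((1 : A') ⊗ₜ d) = b
      rw [Algebra.TensorProduct.lift_tmul, map_one, one_mul]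
      exact hd
    ker_π := by
      refine le_antisymm (fun x hx => ?_) (Ideal.map_le_iff_le_comap.2 fun a ha => ?_)
      · have key : ∀ z : A' ⊗[A] D.carrier, ∃ d : D.carrier,
            z - (1 : A') ⊗ₜ d ∈ 𝔪 A' • (⊤ : Submodule A' (A' ⊗[A] D.carrier)) := by
          intro z
          induction z using TensorProduct.induction_on with
          | zero => exact ⟨0, by simp⟩
          | add a b ha hb =>
            obtain ⟨d, hd⟩ := ha
            obtain ⟨e, he⟩ := hb
            exact ⟨d + e, by rw [TensorProduct.tmul_add, add_sub_add_comm]; exact add_mem hd he⟩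
          | tmul a d =>
            obtain ⟨a₀, ha₀⟩ := A.res_surjective (A'.res a)
            refine ⟨a₀ • d, ?_⟩
            have hm : a - algebraMap A A' a₀ ∈ 𝔪 A' := by
              rw [A'.mem_maximalIdeal_iff, map_sub]
              rw [show A'.res (algebraMap A A' a₀) = A.res a₀ from Art.res_app g a₀, ha₀, sub_self]
            have : a ⊗ₜ[A] d - (1 : A') ⊗ₜ[A] (a₀ • d) = (a - algebraMap A A' a₀) • ((1 : A') ⊗ₜ[A] d) := by
              rw [TensorProduct.tmul_smul, sub_smul, algebraMap_smul, TensorProduct.smul_tmul' a (1 : A') d, smul_eq_mul, mul_one]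
            rw [this]
            exact Submodule.smul_mem_smul hm trivial
        obtain ⟨d, hd⟩ := key x
        rw [Ideal.smul_top_eq_map, Submodule.restrictScalars_mem] at hd
        have hle : (𝔪 A').map (algebraMap A' (A' ⊗[A] D.carrier)) ≤ RingHom.ker Φ.toRingHom :=
          Ideal.map_le_iff_le_comap.2 fun a ha => by
            rw [Ideal.mem_comap, RingHom.mem_ker]
            change Φ (a ⊗ₜ 1) = 0
            rw [Algebra.TensorProduct.lift_tmul, map_one, mul_one]
            exact (congrArg (algebraMap k B₀) ((A'.mem_maximalIdeal_iff _).1 ha)).trans (map_zero _)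
        have hπd : D.π d = 0 := by
          have h0 : Φ (x - (1 : A') ⊗ₜ d) = 0 := hle hd
          rw [map_sub, show Φ x = 0 from hx, zero_sub, neg_eq_zero, Algebra.TensorProduct.lift_tmul, map_one,
            one_mul] at h0
          exact h0
        have hd2 : (1 : A') ⊗ₜ[A] d ∈ (𝔪 A').map (algebraMap A' (A' ⊗[A] D.carrier)) := by
          have hd1 : d ∈ (𝔪 A).map (algebraMap A D.carrier) := D.ker_π.le hπd
          have h2 := Ideal.mem_map_of_mem
            (Algebra.TensorProduct.includeRight : D.carrier →ₐ[A] A' ⊗[A] D.carrier).toRingHom hd1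
          rw [Ideal.map_map, AlgHom.toRingHom_eq_coe, AlgHom.comp_algebraMap,
            IsScalarTower.algebraMap_eq A A' (A' ⊗[A] D.carrier), ← Ideal.map_map] at h2
          exact Ideal.map_mono (map_maximalIdeal_le g) h2
        have hh := add_mem hd hd2
        rwa [sub_add_cancel] at hh
      · rw [Ideal.mem_comap, RingHom.mem_ker]
        change Φ (a ⊗ₜ 1) = 0
        rw [Algebra.TensorProduct.lift_tmul, map_one, mul_one]
        exact (congrArg (algebraMap k B₀) ((A'.mem_maximalIdeal_iff _).1 ha)).trans (map_zero _)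
    π_algebraMap := fun a => by
      change Φ (a ⊗ₜ 1) = _
      rw [Algebra.TensorProduct.lift_tmul, map_one, mul_one]
      rfl }

lemma baseChange_π_tmul (a : A') (d : D.carrier) :
    letI := g.toAlgHom.toRingHom.toAlgebra
    (D.baseChange g).π (a ⊗ₜ[A] d) = algebraMap k B₀ (A'.res a) * D.π d := by
  rfl

/-- The map into the base change. -/
def toBaseChange : Map g D (D.baseChange g) :=
  letI := g.toAlgHom.toRingHom.toAlgebra
  { hom := (Algebra.TensorProduct.includeRight : D.carrier →ₐ[A] A' ⊗[A] D.carrier).toRingHom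
    hom_algebraMap := fun a => by
      change (1 : A') ⊗ₜ[A] algebraMap A D.carrier a = (algebraMap A A' a) ⊗ₜ[A] (1 : D.carrier)
      rw [Algebra.algebraMap_eq_smul_one, Algebra.algebraMap_eq_smul_one (A := A'), TensorProduct.smul_tmul]
    π_hom := fun b => by
      refine (baseChange_π_tmul g D 1 b).trans ?_
      rw [map_one, map_one, one_mul] }

variable {g D}

/-- Universal property of base change. -/
theorem exists_map_of_map {D' : DefAlg B₀ A'} (φ : Map g D D') :
    ∃ ψ : Map (𝟙 A') (D.baseChange g) D', ∀ b, ψ.hom ((D.toBaseChange g).hom b) = φ.hom b := by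
  letI := g.toAlgHom.toRingHom.toAlgebra
  letI := algebraResidue (B₀ := B₀) A
  letI : Algebra A D'.carrier := ((algebraMap A' D'.carrier).comp g.toAlgHom.toRingHom).toAlgebra
  haveI : IsScalarTower A A' D'.carrier := IsScalarTower.of_algebraMap_eq fun _ => rfl
  let Ψ : A' ⊗[A] D.carrier →ₐ[A] D'.carrier := Algebra.TensorProduct.lift (IsScalarTower.toAlgHom A A' D'.carrier)
    { φ.hom with commutes' := φ.hom_algebraMap } fun _ _ => mul_comm _ _
  refine ⟨⟨Ψ.toRingHom, fun a => ?_, fun b => ?_⟩, fun b => ?_⟩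
  · change Ψ (a ⊗ₜ 1) = algebraMap A' D'.carrier a
    rw [Algebra.TensorProduct.lift_tmul, map_one, mul_one]
    rfl
  · change A' ⊗[A] D.carrier at b
    induction b using TensorProduct.induction_on with
    | zero => exact (congrArg D'.π (map_zero Ψ)).trans ((map_zero D'.π).trans (map_zero (D.baseChange g).π).symm)
    | add x y hx hy =>
      exact (congrArg D'.π (map_add Ψ x y)).trans ((map_add D'.π _ _).trans
        ((congrArg₂ (· + ·) hx hy).trans (map_add (D.baseChange g).π x y).symm))
    | tmul a d =>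
      refine Eq.trans ?_ (baseChange_π_tmul g D a d).symm
      change D'.π (algebraMap A' D'.carrier a * φ.hom d) = _
      rw [map_mul, D'.π_algebraMap, φ.π_hom]
  · change Ψ ((1 : A') ⊗ₜ b) = _
    rw [Algebra.TensorProduct.lift_tmul, map_one, one_mul]
    rfl

/-- The kernel of a map over a surjection. -/
theorem Map.mem_ker {D' : DefAlg B₀ A'} (φ : Map g D D') (hg : Function.Surjective g) {b : D.carrier}
    (hb : φ.hom b = 0) : b ∈ RingHom.ker g.toAlgHom • (⊤ : Submodule A D.carrier) := by
  letI := g.toAlgHom.toRingHom.toAlgebra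
  obtain ⟨ψ, hψ⟩ := exists_map_of_map φ
  exact mem_smul_of_one_tmul_eq_zero hg (ψ.bijective.1 ((hψ b).trans (hb.trans (map_zero ψ.hom).symm)))

lemma Map.hom_smul {D' : DefAlg B₀ A'} (φ : Map g D D') (a : A) (b : D.carrier) :
    φ.hom (a • b) = g a • φ.hom b := by
  rw [Algebra.smul_def, map_mul, φ.hom_algebraMap, Algebra.smul_def]

lemma Map.eq_zero_of_mem {D' : DefAlg B₀ A'} (φ : Map g D D') {b : D.carrier}
    (hb : b ∈ RingHom.ker g.toAlgHom • (⊤ : Submodule A D.carrier)) : φ.hom b = 0 := by
  induction hb using Submodule.smul_induction_on' with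
  | smul r hr x _ => rw [φ.hom_smul, show g r = 0 from hr, zero_smul]
  | add x _ y _ hx hy => rw [map_add, hx, hy, add_zero]

/-- Maps over surjections are surjective. -/
theorem Map.surjective {D' : DefAlg B₀ A'} (φ : Map g D D') (hg : Function.Surjective g) :
    Function.Surjective φ.hom := by
  let N : Submodule A' D'.carrier :=
    { carrier := Set.range φ.hom
      add_mem' := fun ⟨x, hx⟩ ⟨y, hy⟩ => ⟨x + y, by rw [map_add, hx, hy]⟩
      zero_mem' := ⟨0, map_zero _⟩
      smul_mem' := fun a y ⟨x, hx⟩ => by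
        obtain ⟨a, rfl⟩ := hg a
        exact ⟨a • x, by rw [φ.hom_smul, hx]⟩ }
  have h : (⊤ : Submodule A' D'.carrier) ≤ N ⊔ 𝔪 A' • ⊤ := fun y _ => by
    obtain ⟨x, hx⟩ := D.π_surjective (D'.π y)
    refine Submodule.mem_sup.2 ⟨φ.hom x, ⟨x, rfl⟩, y - φ.hom x, ?_, add_sub_cancel _ _⟩
    rw [← π_eq_zero_iff, map_sub, φ.π_hom, hx, sub_self]
  exact fun y => Groth.FlatMor2.le_of_le_sup_smul_of_isNilpotent (isNilpotent_maximalIdeal A') h
    (Submodule.mem_top (x := y))

end BaseChange

/-- For a generator `t` of a small extension, `t • d = 0` only if `d` reduces to `0`. -/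
theorem π_eq_zero_of_smul_eq_zero (D : DefAlg B₀ A) {t : A} (ht : t ≠ 0)
    (htm : ∀ m ∈ 𝔪 A, m * t = 0) {d : D.carrier} (hd : t • d = 0) : D.π d = 0 := by
  rw [π_eq_zero_iff]
  let f : (A ⧸ 𝔪 A) →ₗ[A] A := Submodule.liftQ (𝔪 A) (LinearMap.toSpanSingleton A A t) fun m hm => by
    rw [LinearMap.mem_ker, LinearMap.toSpanSingleton_apply]
    exact htm m hm
  have hf : Function.Injective f := by
    rw [injective_iff_map_eq_zero]
    intro x hx
    obtain ⟨a, rfl⟩ := Submodule.Quotient.mk_surjective _ x
    refine (Submodule.Quotient.mk_eq_zero _).2 ((IsLocalRing.mem_maximalIdeal _).2 fun hu => ht ?_)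
    exact (hu.mul_right_eq_zero).1 hx
  have hinj := Module.Flat.rTensor_preserves_injective_linearMap (M := D.carrier) f hf
  have h0 : (Ideal.Quotient.mk (𝔪 A) 1 : A ⧸ 𝔪 A) ⊗ₜ[A] d = 0 := by
    refine hinj ?_
    rw [map_zero, LinearMap.rTensor_tmul]
    refine (TensorProduct.lid A D.carrier).injective ?_
    rw [TensorProduct.lid_tmul, map_zero, show f (Ideal.Quotient.mk (𝔪 A) 1) = (1 : A) • t from rfl, one_smul, hd]
  have := mem_smul_of_one_tmul_eq_zero (A' := A ⧸ 𝔪 A) Ideal.Quotient.mk_surjective h0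
  rwa [Ideal.Quotient.algebraMap_eq, Ideal.mk_ker] at this

end DefAlg

end Groth.ArtfunDeform
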