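import Groth.Agent.ArtfunDeform.AlgDef.Basic
import Groth.Agent.FlatMor2.AffineThickening
import Groth.Agent.FlatMor2.NilBaseChange
import Groth.Prelude.Def_ArtFun4

/-!
Deformations of an affine scheme are deformations of its algebra.

* `DefAlg.toSch`, `DefAlg.cl`; `DefAlg.exists_cl`, `DefAlg.cl_eq_iff`, `DefAlg.map_cl`;
* the trivial deformation.
-/

set_option linter.style.haveILetI false
set_option linter.style.longLine false
set_option linter.unusedSectionVars false

noncomputable section

universe u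

open CategoryTheory Limits AlgebraicGeometry TensorProduct

namespace Groth.ArtfunDeform

open ArtFun

local notation "𝔪" => IsLocalRing.maximalIdeal

variable {Λ k : Type u} [CommRing Λ] [Field k] [Algebra Λ k]
variable {B₀ : Type u} [CommRing B₀] [Algebra k B₀]

/-- The structure morphism of `Spec B₀`. -/
abbrev strMap (k B₀ : Type u) [Field k] [CommRing B₀] [Algebra k B₀] :
    Spec (CommRingCat.of B₀) ⟶ Art.specPt k :=
  Spec.map (CommRingCat.ofHom (algebraMap k B₀))

/-- `Spec` of an object is a point. -/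
instance (A : Art Λ k) : Subsingleton (PrimeSpectrum A) := by
  refine ⟨fun p q => ?_⟩
  have h : ∀ r : PrimeSpectrum A, r.asIdeal = 𝔪 A := fun r => by
    obtain ⟨n, hn⟩ := isNilpotent_maximalIdeal A
    refine le_antisymm (IsLocalRing.le_maximalIdeal r.2.ne_top) ?_
    exact r.2.le_of_pow_le (n := n) (by rw [hn]; exact bot_le)
  exact PrimeSpectrum.ext ((h p).trans (h q).symm)

instance (A : Art Λ k) : IsClosedImmersion (Art.specRes A) :=
  IsClosedImmersion.spec_of_surjective _ A.res_surjective

instance (A : Art Λ k) : Surjective (Art.specRes A) :=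
  ⟨fun _ => ⟨(default : PrimeSpectrum k), Subsingleton.elim (α := PrimeSpectrum A) _ _⟩⟩

namespace DefAlg

variable {A A' : Art Λ k}

lemma isPushout (D : DefAlg B₀ A) :
    IsPushout (CommRingCat.ofHom (algebraMap A D.carrier)) (CommRingCat.ofHom A.res.toRingHom)
      (CommRingCat.ofHom D.π) (CommRingCat.ofHom (algebraMap k B₀)) := by
  refine ⟨⟨CommRingCat.hom_ext (RingHom.ext D.π_algebraMap)⟩, ⟨PushoutCocone.IsColimit.mk _
    (fun s => CommRingCat.ofHom (RingHom.liftOfSurjective D.π D.π_surjective ⟨s.inl.hom, ?_⟩))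
    (fun s => ?_) (fun s => ?_) (fun s m h1 h2 => ?_)⟩⟩
  · rw [D.ker_π]
    refine Ideal.map_le_iff_le_comap.2 fun a ha => ?_
    rw [Ideal.mem_comap, RingHom.mem_ker]
    refine (congr($(s.condition) a)).trans ?_
    rw [CommRingCat.comp_apply]
    exact (congrArg s.inr ((A.mem_maximalIdeal_iff a).1 ha)).trans (map_zero _)
  · exact CommRingCat.hom_ext (RingHom.ext fun d => RingHom.liftOfSurjective_comp_apply D.π D.π_surjective _ d)
  · refine CommRingCat.hom_ext (RingHom.ext fun c => ?_)
    obtain ⟨a, rfl⟩ := A.res_surjective c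
    refine Eq.trans ?_ (congr($(s.condition) a))
    change RingHom.liftOfSurjective D.π D.π_surjective _ (algebraMap k B₀ (A.res a)) = _
    rw [← D.π_algebraMap]
    exact RingHom.liftOfSurjective_comp_apply D.π D.π_surjective _ _
  · refine CommRingCat.hom_ext (RingHom.ext fun b => ?_)
    obtain ⟨d, rfl⟩ := D.π_surjective b
    refine (congr($h1 d)).trans ?_
    exact (RingHom.liftOfSurjective_comp_apply (C := s.pt) D.π D.π_surjective ⟨s.inl.hom, _⟩ d).symm

/-- The deformation of schemes attached to a deformation of algebras. -/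
@[reducible] def toSch (D : DefAlg B₀ A) : DefSch (Spec (CommRingCat.of B₀)) (strMap k B₀) A where
  total := Spec (CommRingCat.of D.carrier)
  f := Spec.map (CommRingCat.ofHom (algebraMap A D.carrier))
  flat := Flat.SpecMap_iff.2 (RingHom.flat_algebraMap_iff.2 D.flat)
  i := Spec.map (CommRingCat.ofHom D.π)
  isPullback := isPullback_SpecMap_of_isPushout _ _ _ _ D.isPushout

/-- The class of a deformation of algebras. -/
def cl (D : DefAlg B₀ A) : (defFunctor (Spec (CommRingCat.of B₀)) (strMap k B₀)).obj A :=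
  D.toSch.cl

/-- Every deformation of an affine scheme is affine. -/
theorem exists_toSch (ξ : DefSch (Spec (CommRingCat.of B₀)) (strMap k B₀) A) :
    ∃ D : DefAlg B₀ A, Nonempty (D.toSch.Iso ξ) := by
  haveI : IsClosedImmersion ξ.i := MorphismProperty.of_isPullback ξ.isPullback.flip inferInstance
  haveI : Surjective ξ.i := MorphismProperty.of_isPullback ξ.isPullback.flip inferInstance
  haveI : IsAffine ξ.total := Groth.FlatMor2.isAffine_of_surjective_closedImmersion ξ.i
  let e := ξ.total.isoSpec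
  obtain ⟨φ, hφ⟩ : ∃ φ : CommRingCat.of A ⟶ Γ(ξ.total, ⊤), Spec.map φ = e.inv ≫ ξ.f :=
    ⟨_, Spec.map_preimage _⟩
  obtain ⟨ψ, hψ⟩ : ∃ ψ : Γ(ξ.total, ⊤) ⟶ CommRingCat.of B₀, Spec.map ψ = ξ.i ≫ e.hom :=
    ⟨_, Spec.map_preimage _⟩
  have hpb : IsPullback (Spec.map ψ) (strMap k B₀) (Spec.map φ) (Art.specRes A) := by
    refine ξ.isPullback.of_iso (Iso.refl _) e (Iso.refl _) (Iso.refl _) ?_ ?_ ?_ ?_
    · simp [hψ]
    · simp
    · simp [hφ]
    · simp
  have hpo : IsPushout φ (CommRingCat.ofHom A.res.toRingHom) ψ (CommRingCat.ofHom (algebraMap k B₀)) :=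
    (IsPullback.of_map_of_faithful Scheme.Spec (f := ψ.op) (g := (CommRingCat.ofHom (algebraMap k B₀)).op)
      (h := φ.op) (i := (CommRingCat.ofHom A.res.toRingHom).op) hpb).unop.flip
  have hflat : Flat (Spec.map φ) := by rw [hφ]; infer_instance
  letI := φ.hom.toAlgebra
  let D : DefAlg B₀ A :=
    { carrier := Γ(ξ.total, ⊤)
      flat := Flat.SpecMap_iff.1 hflat
      π := ψ.hom
      π_surjective := Groth.FlatMor2.surjective_of_isPushout hpo A.res_surjective
      ker_π := by
        rw [Groth.FlatMor2.ker_eq_map_of_isPushout hpo A.res_surjective]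
        exact congrArg (Ideal.map φ.hom) (ker_res A)
      π_algebraMap := fun a => congr($(hpo.w) a) }
  refine ⟨D, ⟨⟨e.symm, ?_, ?_⟩⟩⟩
  · exact hφ.symm
  · change Spec.map ψ ≫ e.inv = ξ.i
    rw [hψ, Category.assoc, Iso.hom_inv_id, Category.comp_id]

theorem exists_cl (q : (defFunctor (Spec (CommRingCat.of B₀)) (strMap k B₀)).obj A) :
    ∃ D : DefAlg B₀ A, D.cl = q := by
  induction q using Quotient.inductionOn with
  | h ξ =>
    obtain ⟨D, ⟨e⟩⟩ := exists_toSch ξ
    exact ⟨D, Quotient.sound ⟨e⟩⟩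

/-- A map over the identity gives an isomorphism of deformations. -/
def Map.toIso {D D' : DefAlg B₀ A} (φ : Map (𝟙 A) D D') : D'.toSch.Iso D.toSch where
  iso :=
    { hom := Spec.map (CommRingCat.ofHom φ.hom)
      inv := Spec.map (CommRingCat.ofHom φ.symm.hom)
      hom_inv_id := by
        rw [← Spec.map_comp, ← Spec.map_id, ← CommRingCat.ofHom_comp]
        exact congrArg Spec.map (CommRingCat.hom_ext (RingHom.ext fun d =>
          (RingEquiv.ofBijective φ.hom φ.bijective).apply_symm_apply d))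
      inv_hom_id := by
        rw [← Spec.map_comp, ← Spec.map_id, ← CommRingCat.ofHom_comp]
        exact congrArg Spec.map (CommRingCat.hom_ext (RingHom.ext fun d =>
          (RingEquiv.ofBijective φ.hom φ.bijective).symm_apply_apply d)) }
  hom_f := (Spec.map_comp _ _).symm.trans
    (congrArg Spec.map (CommRingCat.hom_ext (RingHom.ext φ.hom_algebraMap)))
  i_hom := (Spec.map_comp _ _).symm.trans
    (congrArg Spec.map (CommRingCat.hom_ext (RingHom.ext φ.π_hom)))

/-- An isomorphism of deformations gives a map over the identity. -/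
def isoToMap {D D' : DefAlg B₀ A} (e : D.toSch.Iso D'.toSch) : Map (𝟙 A) D' D where
  hom := (Spec.preimage e.iso.hom).hom
  hom_algebraMap a := by
    have h : CommRingCat.ofHom (algebraMap A D'.carrier) ≫ Spec.preimage e.iso.hom =
        CommRingCat.ofHom (algebraMap A D.carrier) :=
      Spec.map_injective (by rw [Spec.map_comp, Spec.map_preimage]; exact e.hom_f)
    exact congr($h a)
  π_hom b := by
    have h : Spec.preimage e.iso.hom ≫ CommRingCat.ofHom D.π = CommRingCat.ofHom D'.π :=
      Spec.map_injective (by rw [Spec.map_comp, Spec.map_preimage]; exact e.i_hom)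
    exact congr($h b)

theorem cl_eq_iff {D D' : DefAlg B₀ A} : D.cl = D'.cl ↔ Nonempty (Map (𝟙 A) D D') :=
  ⟨fun h => let ⟨e⟩ := Quotient.exact h; ⟨(isoToMap e.symm)⟩, fun ⟨φ⟩ => Quotient.sound ⟨φ.toIso.symm⟩⟩

/-- The cartesian square of a base change. -/
theorem isPullback_baseChange (g : A ⟶ A') (D : DefAlg B₀ A) :
    IsPullback (Spec.map (CommRingCat.ofHom (D.toBaseChange g).hom)) (D.baseChange g).toSch.f
      D.toSch.f (Art.specMap g) := by
  letI := g.toAlgHom.toRingHom.toAlgebra
  exact isPullback_SpecMap_of_isPushout _ _ _ _ (CommRingCat.isPushout_tensorProduct A A' D.carrier).flip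

/-- Base change of algebras is base change of schemes. -/
def baseChangeIso (g : A ⟶ A') (D : DefAlg B₀ A) : (D.baseChange g).toSch.Iso (D.toSch.baseChange g) where
  iso := (isPullback_baseChange g D).isoPullback
  hom_f := IsPullback.isoPullback_hom_snd _
  i_hom := by
    apply pullback.hom_ext
    · rw [Category.assoc, IsPullback.isoPullback_hom_fst, DefSch.baseChange_i_fst, ← Spec.map_comp]
      exact congrArg Spec.map (CommRingCat.hom_ext (RingHom.ext (D.toBaseChange g).π_hom))
    · rw [Category.assoc, IsPullback.isoPullback_hom_snd]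
      exact ((D.baseChange g).toSch.i_f).trans (DefSch.baseChange_i_f _ g).symm

theorem map_cl_baseChange (g : A ⟶ A') (D : DefAlg B₀ A) :
    (defFunctor (Spec (CommRingCat.of B₀)) (strMap k B₀)).map g D.cl = (D.baseChange g).cl :=
  (Quotient.sound ⟨baseChangeIso g D⟩ : (D.baseChange g).cl = (D.toSch.baseChange g).cl).symm

theorem map_cl {g : A ⟶ A'} {D : DefAlg B₀ A} {D' : DefAlg B₀ A'} (φ : Map g D D') :
    (defFunctor (Spec (CommRingCat.of B₀)) (strMap k B₀)).map g D.cl = D'.cl := by
  rw [map_cl_baseChange]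
  obtain ⟨ψ, -⟩ := exists_map_of_map φ
  exact cl_eq_iff.2 ⟨ψ⟩

theorem map_cl_eq_iff {g : A ⟶ A'} {D : DefAlg B₀ A} {D' : DefAlg B₀ A'} :
    (defFunctor (Spec (CommRingCat.of B₀)) (strMap k B₀)).map g D.cl = D'.cl ↔ Nonempty (Map g D D') :=
  ⟨fun h => by
    rw [map_cl_baseChange, cl_eq_iff] at h
    obtain ⟨ψ⟩ := h
    exact ⟨⟨ψ.hom.comp (D.toBaseChange g).hom,
      fun a => by rw [RingHom.comp_apply, (D.toBaseChange g).hom_algebraMap, ψ.hom_algebraMap]; rfl,
      fun b => by rw [RingHom.comp_apply, ψ.π_hom, (D.toBaseChange g).π_hom]⟩⟩, fun ⟨φ⟩ => map_cl φ⟩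

variable (B₀) in
/-- `B₀` as a deformation over `k`. -/
def self : DefAlg B₀ (Art.base Λ k) where
  carrier := B₀
  algebra := algebraResidue (Art.base Λ k)
  flat :=
    letI := (algebraResidue (B₀ := B₀) (Art.base Λ k))
    letI : Module k B₀ := (Algebra.toModule : Module (Art.base Λ k) B₀)
    (inferInstance : Module.Flat k B₀)
  π := RingHom.id B₀
  π_surjective := Function.surjective_id
  ker_π := by
    have h : 𝔪 (Art.base Λ k) = ⊥ := IsLocalRing.maximalIdeal_eq_bot (R := k)
    rw [h, Ideal.map_bot]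
    exact (RingHom.injective_iff_ker_eq_bot _).1 Function.injective_id
  π_algebraMap _ := rfl

theorem self_cl (hx : Flat (strMap k B₀)) :
    (self (Λ := Λ) B₀).cl = (DefSch.self (Spec (CommRingCat.of B₀)) (strMap k B₀) hx).cl :=
  Quotient.sound ⟨⟨Iso.refl _, Category.id_comp _,
    (Category.comp_id _).trans (Spec.map_id (CommRingCat.of B₀))⟩⟩

end DefAlg

section Trivial

variable {k : Type u} [Field k] {B₀ : Type u} [CommRing B₀] [Algebra k B₀] {A : Art k k}

/-- The trivial deformation of algebras. -/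
abbrev DefAlg.trivial (B₀ : Type u) [CommRing B₀] [Algebra k B₀] (A : Art k k) : DefAlg B₀ A :=
  (DefAlg.self B₀).baseChange (Art.ofBase A)

theorem DefAlg.trivial_cl (hx : Flat (strMap k B₀)) :
    (DefAlg.trivial B₀ A).cl = (DefSch.trivial (Spec (CommRingCat.of B₀)) (strMap k B₀) hx A).cl := by
  rw [← DefAlg.map_cl_baseChange, DefAlg.self_cl hx]
  rfl

end Trivial

end Groth.ArtfunDeform
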