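import Groth.Agent.ArtfunDeform.AlgDef.KerTensor
import Groth.Prelude.Def_Exal

/-!
Lifts of a deformation along a semismall extension, in terms of extensions of `B₀` by `B₀ ⊗ J`.

With one lift `(D₀, φ₀)` fixed: an extension `E` gives the lift `(D₀ ×_{B₀} E) / (ι₀ m, -incl m)`, and this is a
bijection on classes.
-/

set_option linter.style.haveILetI false
set_option linter.style.longLine false
set_option linter.unusedSectionVars false

noncomputable section

universe u

open CategoryTheory TensorProduct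

namespace Groth.ArtfunDeform

open ArtFun

local notation "𝔪" => IsLocalRing.maximalIdeal

variable {k : Type u} [Field k] {B₀ : Type u} [CommRing B₀] [Algebra k B₀] {C' C : Art k k} {p : C' ⟶ C}

/-- A lift of `D` along `p`. -/
abbrev LiftPair (p : C' ⟶ C) (D : DefAlg B₀ C) : Type (u + 1) := Σ D' : DefAlg B₀ C', DefAlg.Map p D' D

/-- Isomorphism of lifts. -/
def LiftRel {D : DefAlg B₀ C} (a b : LiftPair p D) : Prop :=
  ∃ ψ : DefAlg.Map (𝟙 C') a.1 b.1, ∀ x, b.2.hom (ψ.hom x) = a.2.hom x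

lemma LiftRel.refl {D : DefAlg B₀ C} (a : LiftPair p D) : LiftRel a a := ⟨DefAlg.Map.id _, fun _ => rfl⟩

lemma LiftRel.symm {D : DefAlg B₀ C} {a b : LiftPair p D} : LiftRel a b → LiftRel b a := fun ⟨ψ, h⟩ =>
  ⟨ψ.symm, fun x => by
    rw [← h (ψ.symm.hom x)]
    exact congrArg b.2.hom ((RingEquiv.ofBijective ψ.hom ψ.bijective).apply_symm_apply x)⟩

lemma LiftRel.trans {D : DefAlg B₀ C} {a b c : LiftPair p D} : LiftRel a b → LiftRel b c → LiftRel a c :=
  fun ⟨ψ, h⟩ ⟨χ, h'⟩ => ⟨(χ.comp ψ).cast (Category.id_comp _), fun x => (h' _).trans (h x)⟩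

/-- A ring map of extensions is bijective. -/
theorem bijective_of_ext_map {M : Type u} [AddCommGroup M] [Module B₀ M] {X Y : Exal.Ext k B₀ M}
    (h : X.E →+* Y.E) (hp : ∀ e, Y.proj (h e) = X.proj e) (hi : ∀ m, h (X.incl m) = Y.incl m) :
    Function.Bijective h := by
  refine ⟨(injective_iff_map_eq_zero h).2 fun e he => ?_, fun f => ?_⟩
  · obtain ⟨m, rfl⟩ := (X.isExtension.exact e).1 (by rw [← hp, he, map_zero])
    rw [hi] at he
    rw [Y.isExtension.incl_injective (he.trans (map_zero Y.incl).symm), map_zero]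
  · obtain ⟨e, he⟩ := X.isExtension.proj_surjective (Y.proj f)
    obtain ⟨m, hm⟩ := (Y.isExtension.exact (f - h e)).1 (by rw [map_sub, hp, he, sub_self])
    exact ⟨e + X.incl m, by rw [map_add, hi, hm, add_sub_cancel]⟩

section Glue

variable (hp : Art.IsSemismallExt p) {D : DefAlg B₀ C} (a₀ : LiftPair p D) (X : Exal.Ext k B₀ (KerMod B₀ p))

/-- `D₀ ×_{B₀} E`. -/
abbrev glueRing : Subring (a₀.1.carrier × X.E) :=
  RingHom.eqLocus (a₀.1.π.comp (RingHom.fst _ _)) (X.proj.toRingHom.comp (RingHom.snd _ _))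

lemma glueRing_mem {x : a₀.1.carrier} {e : X.E} (h : a₀.1.π x = X.proj e) : (x, e) ∈ glueRing a₀ X := h

instance glueAlgebra : Algebra C' (glueRing a₀ X) :=
  (RingHom.codRestrict ((algebraMap C' a₀.1.carrier).prod ((algebraMap k X.E).comp C'.res.toRingHom))
    (glueRing a₀ X) fun a => (a₀.1.π_algebraMap a).trans (X.proj.commutes _).symm).toAlgebra

/-- The antidiagonal copy of `B₀ ⊗ J`. -/
def glueIdeal : Ideal (glueRing a₀ X) where
  carrier := {z | ∃ m, z.1 = (a₀.1.kerIncl hp m, -X.incl m)}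
  zero_mem' := ⟨0, by rw [map_zero, map_zero, neg_zero]; rfl⟩
  add_mem' := fun {a b} ⟨m, hm⟩ ⟨n, hn⟩ => ⟨m + n, by
    rw [map_add, map_add, neg_add, ← Prod.mk_add_mk, ← hm, ← hn]
    rfl⟩
  smul_mem' := fun c z ⟨m, hm⟩ => ⟨X.proj c.1.2 • m, by
    have h : a₀.1.π c.1.1 = X.proj c.1.2 := c.2
    change c.1 * z.1 = _
    rw [hm, Prod.mul_def, a₀.1.mul_kerIncl hp, mul_neg, X.isExtension.mul_incl, h]⟩

/-- The carrier of the lift attached to an extension. -/
abbrev GlueCarrier : Type u := glueRing a₀ X ⧸ glueIdeal hp a₀ X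

/-- The class of a pair. -/
abbrev glueMk (x : a₀.1.carrier) (e : X.E) (h : a₀.1.π x = X.proj e) : GlueCarrier hp a₀ X :=
  Ideal.Quotient.mk _ ⟨(x, e), glueRing_mem a₀ X h⟩

lemma glueMk_surjective (z : GlueCarrier hp a₀ X) : ∃ x e h, glueMk hp a₀ X x e h = z := by
  obtain ⟨⟨⟨x, e⟩, h⟩, rfl⟩ := Ideal.Quotient.mk_surjective z
  exact ⟨x, e, h, rfl⟩

lemma glueMk_congr {x x' : a₀.1.carrier} {e e' : X.E} {h : a₀.1.π x = X.proj e} {h' : a₀.1.π x' = X.proj e'}
    (hx : x = x') (he : e = e') : glueMk hp a₀ X x e h = glueMk hp a₀ X x' e' h' := by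
  subst hx he
  rfl

lemma glueMk_add {x x' : a₀.1.carrier} {e e' : X.E} (h : a₀.1.π x = X.proj e) (h' : a₀.1.π x' = X.proj e') :
    glueMk hp a₀ X x e h + glueMk hp a₀ X x' e' h' = glueMk hp a₀ X (x + x') (e + e')
      (by rw [map_add, map_add, h, h']) :=
  (map_add (Ideal.Quotient.mk (glueIdeal hp a₀ X)) _ _).symm

lemma glueMk_eq_iff {x x' : a₀.1.carrier} {e e' : X.E} (h : a₀.1.π x = X.proj e) (h' : a₀.1.π x' = X.proj e') :
    glueMk hp a₀ X x e h = glueMk hp a₀ X x' e' h' ↔ ∃ m, x = x' + a₀.1.kerIncl hp m ∧ e = e' - X.incl m := by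
  rw [Ideal.Quotient.mk_eq_mk_iff_sub_mem]
  constructor
  · rintro ⟨m, hm⟩
    refine ⟨m, ?_, ?_⟩
    · rw [← show x - x' = a₀.1.kerIncl hp m from congrArg Prod.fst hm, add_sub_cancel]
    · rw [sub_eq_add_neg, ← show e - e' = -X.incl m from congrArg Prod.snd hm, add_sub_cancel]
  · rintro ⟨m, rfl, rfl⟩
    exact ⟨m, Prod.ext (add_sub_cancel_left _ _) (sub_sub_cancel_left e' (X.incl m))⟩

lemma glueMk_inj {x : a₀.1.carrier} {e e' : X.E} (h : a₀.1.π x = X.proj e) (h' : a₀.1.π x = X.proj e')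
    (heq : glueMk hp a₀ X x e h = glueMk hp a₀ X x e' h') : e = e' := by
  obtain ⟨m, hm, he⟩ := (glueMk_eq_iff hp a₀ X h h').1 heq
  have hm0 : m = 0 := a₀.1.kerIncl_injective hp ((add_eq_left.1 hm.symm).trans (map_zero _).symm)
  rw [he, hm0, map_zero, sub_zero]

lemma algebraMap_glueMk (a : C') :
    algebraMap C' (GlueCarrier hp a₀ X) a = glueMk hp a₀ X (algebraMap C' a₀.1.carrier a)
      (algebraMap k X.E (C'.res a)) ((a₀.1.π_algebraMap a).trans (X.proj.commutes _).symm) := rfl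

lemma smul_glueMk (a : C') {x : a₀.1.carrier} {e : X.E} (h : a₀.1.π x = X.proj e) :
    a • glueMk hp a₀ X x e h = glueMk hp a₀ X (a • x) (C'.res a • e) (by
      rw [Algebra.smul_def, map_mul, a₀.1.π_algebraMap, h, map_smul, Algebra.smul_def]) := by
  refine (Algebra.smul_def a (glueMk hp a₀ X x e h)).trans ?_
  rw [algebraMap_glueMk, ← map_mul]
  exact congrArg _ (Subtype.ext (Prod.ext (Algebra.smul_def a x).symm (Algebra.smul_def _ e).symm))

/-- A linear section of `proj`. -/
theorem exists_section : ∃ s : B₀ →ₗ[k] X.E, ∀ b, X.proj (s b) = b := by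
  obtain ⟨s, hs⟩ := X.proj.toLinearMap.exists_rightInverse_of_surjective
    (LinearMap.range_eq_top.2 X.isExtension.proj_surjective)
  exact ⟨s, fun b => congr($hs b)⟩

/-- `D₀ → D_E`, linear over `C'`. -/
def glueLin : a₀.1.carrier →ₗ[C'] GlueCarrier hp a₀ X where
  toFun x := glueMk hp a₀ X x ((exists_section X).choose (a₀.1.π x)) ((exists_section X).choose_spec _).symm
  map_add' x y := by
    rw [glueMk_add]
    exact glueMk_congr hp a₀ X rfl (by rw [map_add, map_add])
  map_smul' a x := by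
    rw [RingHom.id_apply, smul_glueMk]
    exact glueMk_congr hp a₀ X rfl (by
      rw [Algebra.smul_def, map_mul, a₀.1.π_algebraMap, ← Algebra.smul_def, map_smul])

lemma glueLin_bijective : Function.Bijective (glueLin hp a₀ X) := by
  refine ⟨(injective_iff_map_eq_zero _).2 fun x hx => ?_, fun z => ?_⟩
  · have h0 : glueMk hp a₀ X x ((exists_section X).choose (a₀.1.π x)) ((exists_section X).choose_spec _).symm =
        glueMk hp a₀ X 0 0 (by rw [map_zero, map_zero]) := hx.trans (map_zero (Ideal.Quotient.mk _)).symm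
    obtain ⟨m, hm, he⟩ := (glueMk_eq_iff hp a₀ X _ _).1 h0
    rw [zero_add] at hm
    rw [hm, a₀.1.π_kerIncl hp, map_zero, zero_sub, eq_comm, neg_eq_zero] at he
    rw [hm, X.isExtension.incl_injective (he.trans (map_zero _).symm), map_zero]
  · obtain ⟨x, e, h, rfl⟩ := glueMk_surjective hp a₀ X z
    obtain ⟨m, hm⟩ := (X.isExtension.exact (e - (exists_section X).choose (a₀.1.π x))).1
      (by rw [map_sub, (exists_section X).choose_spec, h, sub_self])
    refine ⟨x + a₀.1.kerIncl hp m, ?_⟩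
    change glueMk hp a₀ X (x + a₀.1.kerIncl hp m) ((exists_section X).choose (a₀.1.π (x + a₀.1.kerIncl hp m)))
      ((exists_section X).choose_spec _).symm = _
    refine (glueMk_eq_iff hp a₀ X _ _).2 ⟨m, rfl, ?_⟩
    rw [map_add, a₀.1.π_kerIncl hp, add_zero, hm, sub_sub_cancel]

/-- The lift attached to an extension. -/
@[reducible] def glueDef : DefAlg B₀ C' where
  carrier := GlueCarrier hp a₀ X
  flat := Module.Flat.of_linearEquiv (LinearEquiv.ofBijective _ (glueLin_bijective hp a₀ X)).symm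
  π := Ideal.Quotient.lift _ (a₀.1.π.comp ((RingHom.fst _ _).comp (glueRing a₀ X).subtype)) fun z ⟨m, hm⟩ => by
    change a₀.1.π z.1.1 = 0
    rw [hm]
    exact a₀.1.π_kerIncl hp m
  π_surjective b := by
    obtain ⟨x, rfl⟩ := a₀.1.π_surjective b
    exact ⟨glueLin hp a₀ X x, rfl⟩
  ker_π := by
    refine le_antisymm (fun z hz => ?_) (Ideal.map_le_iff_le_comap.2 fun a ha => ?_)
    · obtain ⟨x, rfl⟩ := (glueLin_bijective hp a₀ X).2 z
      have h := Submodule.mem_map_of_mem (f := glueLin hp a₀ X) ((a₀.1.π_eq_zero_iff x).1 hz)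
      rw [Submodule.map_smul''] at h
      have h' := Submodule.smul_mono le_rfl le_top h
      rw [Ideal.smul_top_eq_map] at h'
      exact h'
    · change a₀.1.π (algebraMap C' a₀.1.carrier a) = 0
      rw [a₀.1.π_algebraMap, show C'.res a = 0 from (C'.mem_maximalIdeal_iff a).1 ha, map_zero]
  π_algebraMap a := a₀.1.π_algebraMap a

/-- The lift with its map to `D`. -/
@[reducible] def gluePair : LiftPair p D :=
  ⟨glueDef hp a₀ X,
    { hom := Ideal.Quotient.lift _ (a₀.2.hom.comp ((RingHom.fst _ _).comp (glueRing a₀ X).subtype)) fun z ⟨m, hm⟩ => by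
        change a₀.2.hom z.1.1 = 0
        rw [hm]
        exact a₀.1.map_kerIncl hp a₀.2 m
      hom_algebraMap := fun a => a₀.2.hom_algebraMap a
      π_hom := fun z => by
        obtain ⟨x, e, h, rfl⟩ := glueMk_surjective hp a₀ X z
        exact a₀.2.π_hom x }⟩

lemma proj_incl_zero (m : KerMod B₀ p) : a₀.1.π 0 = X.proj (X.incl m) := by
  rw [map_zero, (X.isExtension.exact _).2 ⟨m, rfl⟩]

lemma glue_kerIncl (m : KerMod B₀ p) :
    (glueDef hp a₀ X).kerIncl hp m = glueMk hp a₀ X 0 (X.incl m) (proj_incl_zero a₀ X m) := by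
  induction m using TensorProduct.induction_on with
  | zero =>
    rw [map_zero]
    refine Eq.trans ?_ (glueMk_congr hp a₀ X (h := by rw [map_zero, map_zero]) rfl (map_zero X.incl).symm)
    exact (map_zero (Ideal.Quotient.mk (glueIdeal hp a₀ X))).symm
  | add x y hx hy =>
    rw [map_add, hx, hy, glueMk_add]
    exact glueMk_congr hp a₀ X (add_zero 0) (map_add X.incl x y).symm
  | tmul b j =>
    obtain ⟨x, rfl⟩ := a₀.1.π_surjective b
    rw [(glueDef hp a₀ X).kerIncl_tmul hp j (b := a₀.1.π x) (d := glueLin hp a₀ X x) rfl]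
    change (j : C') • glueMk hp a₀ X x ((exists_section X).choose (a₀.1.π x)) ((exists_section X).choose_spec _).symm = _
    rw [smul_glueMk, glueMk_eq_iff]
    refine ⟨a₀.1.π x ⊗ₜ j, ?_, ?_⟩
    · rw [zero_add, a₀.1.kerIncl_tmul hp j rfl]
    · rw [res_ker j.2, zero_smul, sub_self]

variable {X}

/-- Equivalent extensions give isomorphic lifts. -/
theorem liftRel_of_equiv {Y : Exal.Ext k B₀ (KerMod B₀ p)} (e : Exal.Ext.Equiv X Y) :
    LiftRel (gluePair hp a₀ X) (gluePair hp a₀ Y) := by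
  let f : glueRing a₀ X →+* GlueCarrier hp a₀ Y := (Ideal.Quotient.mk _).comp
    (RingHom.codRestrict ((RingHom.prodMap (RingHom.id a₀.1.carrier) e.toAlgEquiv.toAlgHom.toRingHom).comp
      (glueRing a₀ X).subtype) (glueRing a₀ Y) fun z => (z.2 : a₀.1.π z.1.1 = X.proj z.1.2).trans (e.proj_apply _).symm)
  refine ⟨⟨Ideal.Quotient.lift _ f fun z ⟨m, hm⟩ => ?_, fun a => ?_, fun z => ?_⟩, fun z => ?_⟩
  · refine Ideal.Quotient.eq_zero_iff_mem.2 ⟨m, ?_⟩
    change (z.1.1, e.toAlgEquiv z.1.2) = _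
    rw [hm, map_neg, e.apply_incl]
  · exact glueMk_congr hp a₀ Y (h := (a₀.1.π_algebraMap a).trans
      ((X.proj.commutes _).symm.trans (e.proj_apply _).symm))
      (h' := (a₀.1.π_algebraMap a).trans (Y.proj.commutes _).symm) rfl (e.toAlgEquiv.commutes _)
  · obtain ⟨x, e', h, rfl⟩ := glueMk_surjective hp a₀ X z
    rfl
  · obtain ⟨x, e', h, rfl⟩ := glueMk_surjective hp a₀ X z
    rfl

/-- Isomorphic lifts come from equivalent extensions. -/
theorem equiv_of_liftRel {Y : Exal.Ext k B₀ (KerMod B₀ p)} (h : LiftRel (gluePair hp a₀ X) (gluePair hp a₀ Y)) :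
    Nonempty (Exal.Ext.Equiv X Y) := by
  obtain ⟨ψ, hψ⟩ := h
  have key : ∀ z : glueRing a₀ X, ∃ f h', ψ.hom (Ideal.Quotient.mk _ z) = glueMk hp a₀ Y z.1.1 f h' := by
    intro z
    obtain ⟨x', f', h', e⟩ := glueMk_surjective hp a₀ Y (ψ.hom (Ideal.Quotient.mk _ z))
    have hx : a₀.2.hom x' = a₀.2.hom z.1.1 := by
      have := hψ (Ideal.Quotient.mk _ z)
      rw [← e] at this
      exact this
    obtain ⟨m, hm⟩ := a₀.1.exists_kerIncl_eq hp a₀.2 (x := x' - z.1.1) (by rw [map_sub, hx, sub_self])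
    refine ⟨f' + Y.incl m, ?_, e.symm.trans ((glueMk_eq_iff hp a₀ Y _ _).2 ⟨m, ?_, ?_⟩)⟩
    · have hπ : a₀.1.π x' = a₀.1.π z.1.1 := by rw [← a₀.2.π_hom, hx, a₀.2.π_hom]
      rw [map_add, (Y.isExtension.exact _).2 ⟨m, rfl⟩, add_zero, ← h', hπ]
    · rw [hm, add_sub_cancel]
    · rw [add_sub_cancel_right]
  choose χ hχ' hχ using key
  have huniq : ∀ z f h', ψ.hom (Ideal.Quotient.mk _ z) = glueMk hp a₀ Y z.1.1 f h' → χ z = f := fun z f h' e =>
    glueMk_inj hp a₀ Y _ _ ((hχ z).symm.trans e)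
  let χh : glueRing a₀ X →+* Y.E :=
    { toFun := χ
      map_one' := huniq 1 1 (by change a₀.1.π 1 = _; rw [map_one, map_one]) (by rw [map_one, map_one]; rfl)
      map_mul' := fun z w => huniq _ _ (by
          change a₀.1.π (z.1.1 * w.1.1) = _
          rw [map_mul, hχ' z, hχ' w, map_mul]) (by
          rw [map_mul, map_mul, hχ z, hχ w, ← map_mul]
          rfl)
      map_zero' := huniq 0 0 (by change a₀.1.π 0 = _; rw [map_zero, map_zero]) (by rw [map_zero, map_zero]; rfl)
      map_add' := fun z w => huniq _ _ (by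
          change a₀.1.π (z.1.1 + w.1.1) = _
          rw [map_add, hχ' z, hχ' w, map_add]) (by
          rw [map_add, map_add, hχ z, hχ w, ← map_add]
          rfl) }
  let sn : glueRing a₀ X →+* X.E := (RingHom.snd _ _).comp (glueRing a₀ X).subtype
  have hsn : Function.Surjective sn := fun e => by
    obtain ⟨x, hx⟩ := a₀.1.π_surjective (X.proj e)
    exact ⟨⟨(x, e), glueRing_mem a₀ X hx⟩, rfl⟩
  have hzero : ∀ (w : a₀.1.carrier) (hw : a₀.1.π w = X.proj 0) (hw' : a₀.1.π w = Y.proj 0),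
      ψ.hom (glueMk hp a₀ X w 0 hw) = glueMk hp a₀ Y w 0 hw' := by
    intro w hw hw'
    have h0 : w ∈ 𝔪 C' • (⊤ : Submodule C' a₀.1.carrier) := (a₀.1.π_eq_zero_iff w).1 (hw.trans (map_zero _))
    revert hw hw'
    induction h0 using Submodule.smul_induction_on' with
    | smul a ha x _ =>
      intro hw hw'
      obtain ⟨e₁, he₁⟩ := X.isExtension.proj_surjective (a₀.1.π x)
      have hres : C'.res a = 0 := (C'.mem_maximalIdeal_iff a).1 ha
      have h1 : glueMk hp a₀ X (a • x) 0 hw = a • glueMk hp a₀ X x e₁ he₁.symm := by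
        rw [smul_glueMk]
        exact glueMk_congr hp a₀ X rfl (by rw [hres, zero_smul])
      rw [h1, ψ.hom_smul, hχ ⟨(x, e₁), glueRing_mem a₀ X he₁.symm⟩]
      change a • glueMk hp a₀ Y x _ _ = _
      rw [smul_glueMk]
      exact glueMk_congr hp a₀ Y rfl (by rw [hres, zero_smul])
    | add u hu v hv ihu ihv =>
      intro hw hw'
      have hπu : a₀.1.π u = 0 := (a₀.1.π_eq_zero_iff u).2 hu
      have hπv : a₀.1.π v = 0 := (a₀.1.π_eq_zero_iff v).2 hv
      have h1 := congrArg₂ (· + ·) (ihu (hπu.trans (map_zero _).symm) (hπu.trans (map_zero _).symm))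
        (ihv (hπv.trans (map_zero _).symm) (hπv.trans (map_zero _).symm))
      simp only [← map_add ψ.hom, glueMk_add] at h1
      refine ((congrArg ψ.hom (glueMk_congr hp a₀ X rfl (add_zero 0).symm)).trans h1).trans ?_
      exact glueMk_congr hp a₀ Y rfl (add_zero 0)
  let h : X.E →+* Y.E := RingHom.liftOfSurjective sn hsn ⟨χh, fun z hz => by
    have hz2 : z.1.2 = 0 := hz
    have hπ : a₀.1.π z.1.1 = 0 := (z.2 : a₀.1.π z.1.1 = X.proj z.1.2).trans ((congrArg X.proj hz2).trans (map_zero _))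
    refine huniq z 0 (hπ.trans (map_zero _).symm) ?_
    exact (congrArg ψ.hom (glueMk_congr hp a₀ X (h := z.2) rfl hz2)).trans (hzero _ (hπ.trans (map_zero _).symm) _)⟩
  have hh : ∀ z, h (sn z) = χ z := fun z => RingHom.liftOfSurjective_comp_apply sn hsn _ z
  have hp' : ∀ e, Y.proj (h e) = X.proj e := fun e => by
    obtain ⟨z, rfl⟩ := hsn e
    rw [hh, ← hχ' z]
    exact z.2
  have hi : ∀ m, h (X.incl m) = Y.incl m := fun m => by
    refine (hh ⟨(0, X.incl m), glueRing_mem a₀ X (proj_incl_zero a₀ X m)⟩).trans (huniq _ _ (proj_incl_zero a₀ Y m) ?_)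
    refine (congrArg ψ.hom (glue_kerIncl hp a₀ X m).symm).trans ?_
    exact ((glueDef hp a₀ X).kerIncl_natural hp ψ m).trans (glue_kerIncl hp a₀ Y m)
  refine ⟨⟨AlgEquiv.ofBijective { toRingHom := h, commutes' := fun c => ?_ } (bijective_of_ext_map h hp' hi), hp', hi⟩⟩
  have hc : C'.res (algebraMap k C' c) = c := C'.res.commutes c
  have h0 : (algebraMap k X.E c) = sn (algebraMap C' (glueRing a₀ X) (algebraMap k C' c)) := by
    change _ = algebraMap k X.E (C'.res (algebraMap k C' c))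
    rw [hc]
  change h (algebraMap k X.E c) = _
  rw [h0, hh]
  refine huniq _ _ ((a₀.1.π_algebraMap _).trans (by rw [hc, Y.proj.commutes])) ?_
  refine (ψ.hom_algebraMap _).trans ?_
  refine (algebraMap_glueMk hp a₀ Y _).trans (glueMk_congr hp a₀ Y rfl ?_)
  change algebraMap k Y.E (C'.res (algebraMap k C' c)) = _
  rw [hc]

variable (X) in
/-- Every lift comes from an extension. -/
theorem exists_liftRel (a : LiftPair p D) : ∃ X : Exal.Ext k B₀ (KerMod B₀ p), LiftRel a (gluePair hp a₀ X) := by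
  let R : Subring (a₀.1.carrier × a.1.carrier) :=
    RingHom.eqLocus (a₀.2.hom.comp (RingHom.fst _ _)) (a.2.hom.comp (RingHom.snd _ _))
  letI : Algebra C' R := (RingHom.codRestrict ((algebraMap C' a₀.1.carrier).prod (algebraMap C' a.1.carrier)) R
    fun c => (a₀.2.hom_algebraMap c).trans (a.2.hom_algebraMap c).symm).toAlgebra
  let I : Ideal R := (𝔪 C').map (algebraMap C' R)
  letI : Algebra k (R ⧸ I) := ((Ideal.Quotient.mk I).comp ((algebraMap C' R).comp (algebraMap k C'))).toAlgebra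
  have hR : ∀ z : R, a₀.1.π z.1.1 = a.1.π z.1.2 := fun z => by
    rw [← a₀.2.π_hom, show a₀.2.hom z.1.1 = a.2.hom z.1.2 from z.2, a.2.π_hom]
  have hfst : ∀ x, ∃ z : R, z.1.1 = x := fun x => by
    obtain ⟨y, hy⟩ := a.2.surjective hp.1 (a₀.2.hom x)
    exact ⟨⟨(x, y), hy.symm⟩, rfl⟩
  let q : R →ₗ[C'] a₀.1.carrier :=
    { toFun := fun z => z.1.1
      map_add' := fun _ _ => rfl
      map_smul' := fun c z => by
        change ((c • z : R) : a₀.1.carrier × a.1.carrier).1 = c • z.1.1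
        rw [Algebra.smul_def, Algebra.smul_def]
        rfl }
  have hI : ∀ z : R, z ∈ I ↔ z ∈ 𝔪 C' • (⊤ : Submodule C' R) := fun z => by
    rw [Ideal.smul_top_eq_map]
    rfl
  let iota : KerMod B₀ p →+ R :=
    { toFun := fun m => ⟨(0, a.1.kerIncl hp m), by
        change a₀.2.hom 0 = a.2.hom (a.1.kerIncl hp m)
        rw [map_zero, a.1.map_kerIncl hp a.2]⟩
      map_zero' := Subtype.ext (Prod.ext rfl (map_zero _))
      map_add' := fun m n => Subtype.ext (Prod.ext (add_zero 0).symm (map_add _ m n)) }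
  have hker : ∀ z : R, z.1.1 = 0 → ∃ m, iota m = z := fun z hz => by
    obtain ⟨m, hm⟩ := a.1.exists_kerIncl_eq hp a.2 (x := z.1.2) (by
      rw [← show a₀.2.hom z.1.1 = a.2.hom z.1.2 from z.2, hz, map_zero])
    exact ⟨m, Subtype.ext (Prod.ext hz.symm hm)⟩
  have hIker : ∀ z : R, z ∈ I → z.1.1 = 0 → z = 0 := fun z hz h0 => by
    have h := Groth.FlatMor2.inf_smul_top_le_smul_of_flat q (fun x => hfst x) (𝔪 C') ⟨h0, (hI z).1 hz⟩
    clear hz h0
    induction h using Submodule.smul_induction_on' with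
    | smul c hc w hw =>
      obtain ⟨m, rfl⟩ := hker w hw
      refine Subtype.ext (Prod.ext ?_ ?_)
      · rw [Algebra.smul_def]
        exact mul_zero _
      · rw [Algebra.smul_def]
        exact (Algebra.smul_def c _).symm.trans (a.1.smul_kerIncl_eq_zero hp hc m)
    | add u _ v _ hu hv => rw [hu, hv, add_zero]
  have hdiag : ∀ m, ∃ r : R, r ∈ I ∧ r.1 = (a₀.1.kerIncl hp m, a.1.kerIncl hp m) := fun m => by
    induction m using TensorProduct.induction_on with
    | zero => exact ⟨0, zero_mem _, by rw [map_zero, map_zero]; rfl⟩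
    | add m n hm hn =>
      obtain ⟨r, hr, hr'⟩ := hm
      obtain ⟨r', hr1, hr1'⟩ := hn
      exact ⟨r + r', add_mem hr hr1, by rw [map_add, map_add, ← Prod.mk_add_mk, ← hr', ← hr1']; rfl⟩
    | tmul b j =>
      obtain ⟨x, hx⟩ := a₀.1.π_surjective b
      obtain ⟨z, rfl⟩ := hfst x
      refine ⟨algebraMap C' R j * z, Ideal.mul_mem_right _ _ (Ideal.mem_map_of_mem _
        ((C'.mem_maximalIdeal_iff _).2 (res_ker j.2))), ?_⟩
      rw [a₀.1.kerIncl_tmul hp j hx, a.1.kerIncl_tmul hp j ((hR z).symm.trans hx), Algebra.smul_def, Algebra.smul_def]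
      rfl
  let X : Exal.Ext k B₀ (KerMod B₀ p) :=
    { E := R ⧸ I
      proj :=
        { toRingHom := Ideal.Quotient.lift I (a₀.1.π.comp ((RingHom.fst _ _).comp R.subtype)) fun z hz => by
            refine (a₀.1.π_eq_zero_iff _).2 ?_
            have h := Submodule.mem_map_of_mem (f := q) ((hI z).1 hz)
            rw [Submodule.map_smul''] at h
            exact Submodule.smul_mono le_rfl le_top h
          commutes' := fun c => (a₀.1.π_algebraMap _).trans (congrArg (algebraMap k B₀) (C'.res.commutes c)) }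
      incl := (Ideal.Quotient.mk I).toAddMonoidHom.comp iota
      isExtension :=
        { proj_surjective := fun b => by
            obtain ⟨x, rfl⟩ := a₀.1.π_surjective b
            obtain ⟨z, rfl⟩ := hfst x
            exact ⟨Ideal.Quotient.mk I z, rfl⟩
          incl_injective := (injective_iff_map_eq_zero _).2 fun m hm => by
            have h := hIker (iota m) (Ideal.Quotient.eq_zero_iff_mem.1 hm) rfl
            exact a.1.kerIncl_injective hp ((congrArg (fun z : R => z.1.2) h).trans (map_zero _).symm)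
          exact := fun e => by
            constructor
            · intro he
              obtain ⟨z, rfl⟩ := Ideal.Quotient.mk_surjective e
              have h0 : z.1.1 ∈ Submodule.map q (𝔪 C' • (⊤ : Submodule C' R)) := by
                rw [Submodule.map_smul'', Submodule.map_top, LinearMap.range_eq_top.2 (fun x => hfst x),
                  ← DefAlg.π_eq_zero_iff]
                exact he
              obtain ⟨r, hr, hrz⟩ := h0
              obtain ⟨m, hm⟩ := hker (z - r) (sub_eq_zero.2 hrz.symm)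
              refine ⟨m, (congrArg (Ideal.Quotient.mk I) hm).trans ?_⟩
              rw [map_sub, Ideal.Quotient.eq_zero_iff_mem.2 ((hI r).2 hr), sub_zero]
            · rintro ⟨m, rfl⟩
              exact map_zero a₀.1.π
          mul_incl := fun e m => by
            obtain ⟨z, rfl⟩ := Ideal.Quotient.mk_surjective e
            refine (map_mul (Ideal.Quotient.mk I) z (iota m)).symm.trans (congrArg _ (Subtype.ext (Prod.ext ?_ ?_)))
            · exact mul_zero _
            · exact (a.1.mul_kerIncl hp z.1.2 m).trans (congrArg (fun b => a.1.kerIncl hp (b • m)) (hR z).symm) } }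
  let χ : R →+* GlueCarrier hp a₀ X := (Ideal.Quotient.mk _).comp
    (RingHom.codRestrict (((RingHom.fst _ _).comp R.subtype).prod (Ideal.Quotient.mk I)) (glueRing a₀ X) fun _ => rfl)
  let sn : R →+* a.1.carrier := (RingHom.snd _ _).comp R.subtype
  have hsn : Function.Surjective sn := fun y => by
    obtain ⟨x, hx⟩ := a₀.2.surjective hp.1 (a.2.hom y)
    exact ⟨⟨(x, y), hx⟩, rfl⟩
  let h : a.1.carrier →+* GlueCarrier hp a₀ X := RingHom.liftOfSurjective sn hsn ⟨χ, fun z hz => by
    have hz2 : z.1.2 = 0 := hz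
    obtain ⟨m, hm⟩ := a₀.1.exists_kerIncl_eq hp a₀.2 (x := z.1.1) (by
      rw [show a₀.2.hom z.1.1 = a.2.hom z.1.2 from z.2, hz2, map_zero])
    obtain ⟨r, hr, hr'⟩ := hdiag m
    refine Ideal.Quotient.eq_zero_iff_mem.2 ⟨m, Prod.ext hm.symm ?_⟩
    change Ideal.Quotient.mk I z = -(Ideal.Quotient.mk I (iota m))
    rw [eq_neg_iff_add_eq_zero, ← map_add, Ideal.Quotient.eq_zero_iff_mem]
    rw [show z + iota m = r from Subtype.ext (by
      rw [hr']
      exact Prod.ext ((add_zero _).trans hm.symm) ((congrArg (· + _) hz2).trans (zero_add _)))]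
    exact hr⟩
  have hh : ∀ z, h (sn z) = χ z := fun z => RingHom.liftOfSurjective_comp_apply sn hsn _ z
  refine ⟨X, ⟨h, fun c => ?_, fun y => ?_⟩, fun y => ?_⟩
  · refine (hh (algebraMap C' R c)).trans (Eq.trans ?_ (algebraMap_glueMk hp a₀ X c).symm)
    refine glueMk_congr hp a₀ X (h := rfl) rfl ?_
    change Ideal.Quotient.mk I (algebraMap C' R c) = Ideal.Quotient.mk I (algebraMap C' R (algebraMap k C' (C'.res c)))
    rw [Ideal.Quotient.mk_eq_mk_iff_sub_mem, ← map_sub]
    refine Ideal.mem_map_of_mem _ ((C'.mem_maximalIdeal_iff _).2 ?_)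
    rw [map_sub, show C'.res (algebraMap k C' (C'.res c)) = C'.res c from C'.res.commutes _, sub_self]
  · obtain ⟨z, rfl⟩ := hsn y
    rw [hh]
    exact hR z
  · obtain ⟨z, rfl⟩ := hsn y
    rw [hh]
    exact z.2

end Glue

end Groth.ArtfunDeform
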