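import Groth.Agent.ArtfunDeform.AlgDef.ExtLift
import Groth.Agent.ArtfunDeform.AlgDef.Bridge

/-!
Extensions of an affine deformation along a semismall extension and `Exalcom(B₀, B₀ ⊗ J)`.
-/

set_option linter.style.haveILetI false
set_option linter.style.longLine false
set_option linter.unusedSectionVars false

noncomputable section

universe u

open CategoryTheory Limits AlgebraicGeometry TensorProduct

namespace Groth.ArtfunDeform

open ArtFun

variable {k : Type u} [Field k] {B₀ : Type u} [CommRing B₀] [Algebra k B₀] {C' C : Art k k} {p : C' ⟶ C}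
variable (𝒳 : DefSch (Spec (CommRingCat.of B₀)) (strMap k B₀) C)

/-- Extensions of `𝒳` over `C'`. -/
abbrev SchExt (p : C' ⟶ C) : Type (u + 1) :=
  Σ 𝒳' : DefSch (Spec (CommRingCat.of B₀)) (strMap k B₀) C', (𝒳'.baseChange p).Iso 𝒳

/-- Equivalence of extensions. -/
abbrev SchExtRel (p : C' ⟶ C) (a b : SchExt 𝒳 p) : Prop :=
  ∃ ψ : a.1.Iso b.1, ((ψ.baseChange p).trans b.2).iso = a.2.iso

variable {𝒳}

/-- `𝒳 → 𝒳'`. -/
def schExtMap (a : SchExt 𝒳 p) : 𝒳.total ⟶ a.1.total :=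
  a.2.iso.inv ≫ pullback.fst a.1.f (Art.specMap p)

lemma schExtMap_f (a : SchExt 𝒳 p) : schExtMap a ≫ a.1.f = 𝒳.f ≫ Art.specMap p := by
  rw [schExtMap, Category.assoc, pullback.condition, ← Category.assoc]
  exact congrArg (· ≫ Art.specMap p) a.2.symm.hom_f

lemma schExtMap_i (a : SchExt 𝒳 p) : 𝒳.i ≫ schExtMap a = a.1.i := by
  rw [schExtMap, ← Category.assoc]
  exact (congrArg (· ≫ pullback.fst a.1.f (Art.specMap p)) a.2.symm.i_hom).trans (DefSch.baseChange_i_fst _ _)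

lemma schExtRel_iff (a b : SchExt 𝒳 p) :
    SchExtRel 𝒳 p a b ↔ ∃ ψ : a.1.Iso b.1, schExtMap a ≫ ψ.iso.hom = schExtMap b := by
  refine exists_congr fun ψ => ⟨fun h => ?_, fun h => Iso.ext ?_⟩
  · have h' : (ψ.baseChange p).iso.hom ≫ b.2.iso.hom = a.2.iso.hom := congrArg Iso.hom h
    have h2 : a.2.iso.inv ≫ (ψ.baseChange p).iso.hom = b.2.iso.inv := by
      rw [Iso.inv_comp_eq, ← h', Category.assoc, Iso.hom_inv_id, Category.comp_id]
    rw [schExtMap, schExtMap, ← h2, Category.assoc, Category.assoc]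
    exact congrArg (a.2.iso.inv ≫ ·) (DefSch.pullMap_fst ψ.iso.hom ψ.hom_f p).symm
  · have h2 : a.2.iso.inv ≫ (ψ.baseChange p).iso.hom = b.2.iso.inv := by
      apply pullback.hom_ext
      · rw [Category.assoc]
        exact (congrArg (a.2.iso.inv ≫ ·) (DefSch.pullMap_fst ψ.iso.hom ψ.hom_f p)).trans ((Category.assoc _ _ _).symm.trans h)
      · rw [Category.assoc]
        exact (congrArg (a.2.iso.inv ≫ ·) (DefSch.pullMap_snd ψ.iso.hom ψ.hom_f p)).trans (a.2.symm.hom_f.trans b.2.symm.hom_f.symm)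
    change (ψ.baseChange p).iso.hom ≫ b.2.iso.hom = a.2.iso.hom
    rw [← Iso.cancel_iso_inv_left a.2.iso, ← Category.assoc, h2, Iso.inv_hom_id, Iso.inv_hom_id]

lemma schExtRel_equivalence : Equivalence (SchExtRel 𝒳 p) := by
  refine ⟨fun a => (schExtRel_iff a a).2 ⟨DefSch.Iso.refl _, Category.comp_id _⟩, fun {a b} h => ?_, fun {a b c} h h' => ?_⟩
  · obtain ⟨ψ, hψ⟩ := (schExtRel_iff a b).1 h
    exact (schExtRel_iff b a).2 ⟨ψ.symm, by
      rw [← hψ, Category.assoc]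
      exact (congrArg (schExtMap a ≫ ·) ψ.iso.hom_inv_id).trans (Category.comp_id _)⟩
  · obtain ⟨ψ, hψ⟩ := (schExtRel_iff a b).1 h
    obtain ⟨χ, hχ⟩ := (schExtRel_iff b c).1 h'
    exact (schExtRel_iff a c).2 ⟨ψ.trans χ, by rw [← hχ, ← hψ, Category.assoc]; rfl⟩

lemma schExt_mk_eq_iff (a b : SchExt 𝒳 p) :
    Quot.mk (SchExtRel 𝒳 p) a = Quot.mk (SchExtRel 𝒳 p) b ↔ SchExtRel 𝒳 p a b :=
  ⟨fun h => schExtRel_equivalence.eqvGen_iff.1 (Quot.eqvGen_exact h), Quot.sound⟩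

variable {D : DefAlg B₀ C} (e : D.toSch.Iso 𝒳)

/-- A lift of algebras gives an extension. -/
def toSchExt (a : LiftPair p D) : SchExt 𝒳 p :=
  ⟨a.1.toSch, ((DefAlg.baseChangeIso p a.1).symm.trans
    (Classical.choose (DefAlg.exists_map_of_map a.2)).toIso.symm).trans e⟩

lemma schExtMap_toSchExt (a : LiftPair p D) :
    schExtMap (toSchExt e a) = e.iso.inv ≫ Spec.map (CommRingCat.ofHom a.2.hom) := by
  change (e.iso.inv ≫ Spec.map (CommRingCat.ofHom (Classical.choose (DefAlg.exists_map_of_map a.2)).hom) ≫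
    (DefAlg.isPullback_baseChange p a.1).isoPullback.hom) ≫ pullback.fst _ _ = _
  rw [Category.assoc, Category.assoc, IsPullback.isoPullback_hom_fst, ← Spec.map_comp]
  exact congrArg (fun g => e.iso.inv ≫ Spec.map g)
    (CommRingCat.hom_ext (RingHom.ext fun x => Classical.choose_spec (DefAlg.exists_map_of_map a.2) x))

lemma toSchExt_rel_iff (a b : LiftPair p D) : SchExtRel 𝒳 p (toSchExt e a) (toSchExt e b) ↔ LiftRel b a := by
  rw [schExtRel_iff, schExtMap_toSchExt, schExtMap_toSchExt]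
  constructor
  · rintro ⟨ψ, h⟩
    refine ⟨DefAlg.isoToMap ψ, fun x => ?_⟩
    have h := (Iso.cancel_iso_inv_left e.iso _ _).1 ((Category.assoc _ _ _).symm.trans h)
    have h' : Spec.preimage ψ.iso.hom ≫ CommRingCat.ofHom a.2.hom = CommRingCat.ofHom b.2.hom :=
      Spec.map_injective (by rw [Spec.map_comp, Spec.map_preimage]; exact h)
    exact congr($h' x)
  · rintro ⟨ψ, h⟩
    refine ⟨ψ.toIso, ?_⟩
    refine (Category.assoc _ _ _).trans (congrArg (e.iso.inv ≫ ·) ?_)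
    exact (Spec.map_comp _ _).symm.trans (congrArg Spec.map (CommRingCat.hom_ext (RingHom.ext h)))

lemma exists_toSchExt (σ : SchExt 𝒳 p) : ∃ a : LiftPair p D, SchExtRel 𝒳 p σ (toSchExt e a) := by
  obtain ⟨D', ⟨e'⟩⟩ := DefAlg.exists_toSch σ.1
  let v : D.toSch.total ⟶ D'.toSch.total := e.iso.hom ≫ schExtMap σ ≫ e'.iso.inv
  obtain ⟨χ, hχ⟩ : ∃ χ, Spec.map χ = v := ⟨_, Spec.map_preimage v⟩
  have hf : CommRingCat.ofHom (algebraMap C' D'.carrier) ≫ χ =
      CommRingCat.ofHom p.toAlgHom.toRingHom ≫ CommRingCat.ofHom (algebraMap C D.carrier) := by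
    apply Spec.map_injective
    rw [Spec.map_comp, Spec.map_comp, hχ]
    change v ≫ D'.toSch.f = D.toSch.f ≫ Art.specMap p
    rw [show v ≫ D'.toSch.f = e.iso.hom ≫ schExtMap σ ≫ e'.iso.inv ≫ D'.toSch.f by simp [v],
      show e'.iso.inv ≫ D'.toSch.f = σ.1.f from e'.symm.hom_f, schExtMap_f, ← Category.assoc, e.hom_f]
  have hi : χ ≫ CommRingCat.ofHom D.π = CommRingCat.ofHom D'.π := by
    apply Spec.map_injective
    rw [Spec.map_comp, hχ]
    change D.toSch.i ≫ v = D'.toSch.i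
    rw [show D.toSch.i ≫ v = (D.toSch.i ≫ e.iso.hom) ≫ schExtMap σ ≫ e'.iso.inv by simp [v], e.i_hom,
      ← Category.assoc, schExtMap_i]
    exact e'.symm.i_hom
  let a : LiftPair p D := ⟨D', χ.hom, fun c => congr($hf c), fun x => congr($hi x)⟩
  refine ⟨a, (schExtRel_iff _ _).2 ⟨e'.symm, ?_⟩⟩
  rw [schExtMap_toSchExt, show Spec.map (CommRingCat.ofHom a.2.hom) = v from hχ]
  change schExtMap σ ≫ e'.iso.inv = e.iso.inv ≫ e.iso.hom ≫ schExtMap σ ≫ e'.iso.inv
  rw [Iso.inv_hom_id_assoc]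

theorem exists_schExt_equiv (hp : Art.IsSemismallExt p) (hne : Nonempty (SchExt 𝒳 p)) :
    Nonempty (Quot (SchExtRel 𝒳 p) ≃ Exal.Exalcom k B₀ (KerMod B₀ p)) := by
  obtain ⟨D, ⟨e⟩⟩ := DefAlg.exists_toSch 𝒳
  obtain ⟨a₀, -⟩ := exists_toSchExt e hne.some
  refine ⟨(Equiv.ofBijective (Quotient.lift (s := Exal.Ext.setoid k B₀ (KerMod B₀ p))
    (fun X => Quot.mk (SchExtRel 𝒳 p) (toSchExt e (gluePair hp a₀ X)))
    fun X Y h => h.elim fun f => Quot.sound ((toSchExt_rel_iff e _ _).2 (liftRel_of_equiv hp a₀ f).symm))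
    ⟨?_, ?_⟩).symm⟩
  · intro x y
    induction x using Quotient.inductionOn with
    | h X =>
      induction y using Quotient.inductionOn with
      | h Y =>
        intro h
        exact Quotient.sound (equiv_of_liftRel hp a₀ ((toSchExt_rel_iff e _ _).1 ((schExt_mk_eq_iff _ _).1 h)).symm)
  · intro q
    obtain ⟨σ, rfl⟩ := Quot.exists_rep q
    obtain ⟨a, ha⟩ := exists_toSchExt e σ
    obtain ⟨X, hX⟩ := exists_liftRel hp a₀ a
    exact ⟨Quotient.mk _ X, Quot.sound (schExtRel_equivalence.symm (schExtRel_equivalence.trans ha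
      ((toSchExt_rel_iff e _ _).2 hX.symm)))⟩

end Groth.ArtfunDeform
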