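import Groth.Agent.ArtfunDeform.AlgDef.Rigid
import Groth.Agent.ArtfunDeform.CotT.Exalcom

/-!
First order deformations of an algebra are extensions of the algebra by itself.
-/

set_option linter.style.haveILetI false
set_option linter.style.longLine false
set_option linter.unusedSectionVars false

noncomputable section

universe u

open CategoryTheory AlgebraicGeometry TensorProduct

namespace Groth.ArtfunDeform

open ArtFun

local notation "𝔪" => IsLocalRing.maximalIdeal

variable {k B : Type u} [Field k] [CommRing B] [Algebra k B]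

/-- `k[ε] → E`, `ε ↦ i(1)`. -/
def dualToExt (X : Exal.Ext k B B) : DualNumber k →ₐ[k] X.E :=
  DualNumber.lift ⟨(Algebra.ofId k X.E, X.incl 1), incl_mul_incl X 1 1, fun _ => Commute.all _ _⟩

lemma dualToExt_eps (X : Exal.Ext k B B) : dualToExt X DualNumber.eps = X.incl 1 := DualNumber.lift_apply_eps _

lemma dualToExt_mul (X : Exal.Ext k B B) (z : X.E) : dualToExt X DualNumber.eps * z = X.incl (X.proj z) := by
  rw [dualToExt_eps, mul_comm, X.isExtension.mul_incl, smul_eq_mul, mul_one]

lemma dual_decomp (d : DualNumber k) :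
    d = algebraMap k (DualNumber k) (TrivSqZeroExt.fst d) +
      algebraMap k (DualNumber k) (TrivSqZeroExt.snd d) * DualNumber.eps := by
  rw [TrivSqZeroExt.algebraMap_eq_inl]
  refine TrivSqZeroExt.ext ?_ ?_
  · rw [TrivSqZeroExt.fst_add, TrivSqZeroExt.fst_inl, TrivSqZeroExt.fst_mul, DualNumber.fst_eps, mul_zero, add_zero]
  · rw [TrivSqZeroExt.snd_add, TrivSqZeroExt.snd_inl, TrivSqZeroExt.snd_mul, TrivSqZeroExt.fst_inl,
      TrivSqZeroExt.snd_inl, DualNumber.snd_eps, smul_zero, add_zero, zero_add, smul_eq_mul, mul_one]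

lemma proj_dualToExt (X : Exal.Ext k B B) (d : DualNumber k) :
    X.proj (dualToExt X d) = algebraMap k B (TrivSqZeroExt.fst d) := by
  conv_lhs => rw [dual_decomp d]
  rw [map_add, map_mul, dualToExt_eps, AlgHom.commutes, AlgHom.commutes, map_add, map_mul, proj_incl,
    mul_zero, add_zero, AlgHom.commutes]

lemma flat_dualToExt (X : Exal.Ext k B B) :
    letI := (dualToExt X).toRingHom.toAlgebra
    Module.Flat (DualNumber k) X.E := by
  letI := (dualToExt X).toRingHom.toAlgebra
  haveI : IsScalarTower k (DualNumber k) X.E :=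
    IsScalarTower.of_algebraMap_eq fun c => ((dualToExt X).commutes c).symm
  obtain ⟨s, hs⟩ := X.proj.toLinearMap.exists_rightInverse_of_surjective
    (LinearMap.range_eq_top.2 X.isExtension.proj_surjective)
  have hs' : ∀ b, X.proj (s b) = b := fun b => congr($hs b)
  let Φ := LinearMap.liftBaseChange (DualNumber k) s
  have hdec : ∀ z : DualNumber k ⊗[k] B,
      ∃ x y, z = (1 : DualNumber k) ⊗ₜ x + (DualNumber.eps : DualNumber k) ⊗ₜ y := by
    intro z
    induction z using TensorProduct.induction_on with
    | zero => exact ⟨0, 0, by rw [TensorProduct.tmul_zero, TensorProduct.tmul_zero, add_zero]⟩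
    | add a b ha hb =>
      obtain ⟨x, y, rfl⟩ := ha
      obtain ⟨x', y', rfl⟩ := hb
      exact ⟨x + x', y + y', by rw [TensorProduct.tmul_add, TensorProduct.tmul_add]; abel⟩
    | tmul d b =>
      refine ⟨TrivSqZeroExt.fst d • b, TrivSqZeroExt.snd d • b, ?_⟩
      rw [← TensorProduct.smul_tmul, ← TensorProduct.smul_tmul, ← TensorProduct.add_tmul]
      conv_lhs => rw [dual_decomp d, Algebra.algebraMap_eq_smul_one, ← Algebra.smul_def]
  have hΦ : ∀ x y, Φ ((1 : DualNumber k) ⊗ₜ x + (DualNumber.eps : DualNumber k) ⊗ₜ y) = s x + X.incl y :=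
    fun x y => by
      rw [map_add, LinearMap.liftBaseChange_tmul, LinearMap.liftBaseChange_tmul, one_smul, Algebra.smul_def]
      congr 1
      exact (dualToExt_mul X (s y)).trans (congrArg _ (hs' y))
  refine Module.Flat.of_linearEquiv (LinearEquiv.ofBijective Φ ⟨?_, fun z => ?_⟩).symm
  · rw [injective_iff_map_eq_zero]
    intro z hz
    obtain ⟨x, y, rfl⟩ := hdec z
    rw [hΦ] at hz
    have hx : x = 0 := by
      have := congrArg X.proj hz
      rwa [map_add, map_zero, proj_incl, add_zero, hs'] at this
    have hy : y = 0 := X.isExtension.incl_injective (by rw [map_zero, ← hz, hx, map_zero, zero_add])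
    rw [hx, hy, TensorProduct.tmul_zero, TensorProduct.tmul_zero, add_zero]
  · obtain ⟨y, hy⟩ := (X.isExtension.exact _).1 (show X.proj (z - s (X.proj z)) = 0 by rw [map_sub, hs', sub_self])
    exact ⟨_, (hΦ (X.proj z) y).trans (by rw [hy, add_sub_cancel])⟩

/-- The deformation over `k[ε]` attached to an extension. -/
@[reducible] def ofExt (X : Exal.Ext k B B) : DefAlg B (Art.dual k k) where
  carrier := X.E
  algebra := (dualToExt X).toRingHom.toAlgebra
  flat := flat_dualToExt X
  π := X.proj.toRingHom
  π_surjective := X.isExtension.proj_surjective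
  ker_π := by
    letI := (dualToExt X).toRingHom.toAlgebra
    refine le_antisymm (fun z hz => ?_) (Ideal.map_le_iff_le_comap.2 fun a ha => ?_)
    · obtain ⟨y, rfl⟩ := (X.isExtension.exact z).1 hz
      obtain ⟨w, rfl⟩ := X.isExtension.proj_surjective y
      rw [← dualToExt_mul]
      refine Ideal.mul_mem_right _ _ (Ideal.mem_map_of_mem (dualToExt X).toRingHom ?_)
      exact ((Art.dual k k).mem_maximalIdeal_iff _).2 rfl
    · exact (proj_dualToExt X a).trans ((congrArg (algebraMap k B) (((Art.dual k k).mem_maximalIdeal_iff a).1 ha)).trans (map_zero _))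
  π_algebraMap a := proj_dualToExt X a

/-- Equivalent extensions give isomorphic deformations. -/
def equivToMap {X Y : Exal.Ext k B B} (e : Exal.Ext.Equiv X Y) : DefAlg.Map (𝟙 (Art.dual k k)) (ofExt X) (ofExt Y) where
  hom := e.toAlgEquiv.toAlgHom.toRingHom
  hom_algebraMap a := by
    change e.toAlgEquiv (dualToExt X a) = dualToExt Y a
    conv_lhs => rw [dual_decomp a]
    conv_rhs => rw [dual_decomp a]
    rw [map_add, map_mul, map_add, map_mul, map_add, map_mul, AlgHom.commutes, AlgHom.commutes, AlgHom.commutes,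
      AlgHom.commutes, dualToExt_eps, dualToExt_eps, e.toAlgEquiv.commutes, e.toAlgEquiv.commutes, e.apply_incl]
  π_hom b := e.proj_apply b

theorem equiv_of_map {X Y : Exal.Ext k B B} (φ : DefAlg.Map (𝟙 (Art.dual k k)) (ofExt X) (ofExt Y)) :
    Nonempty (Exal.Ext.Equiv X Y) := by
  have hc : ∀ c : k, φ.hom (algebraMap k X.E c) = algebraMap k Y.E c := fun c => by
    have h := φ.hom_algebraMap (algebraMap k (DualNumber k) c)
    change φ.hom (dualToExt X _) = dualToExt Y _ at h
    rw [AlgHom.commutes] at h
    exact h.trans ((dualToExt Y).commutes c)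
  refine ⟨⟨AlgEquiv.ofBijective { toRingHom := φ.hom, commutes' := hc } φ.bijective, φ.π_hom, fun z => ?_⟩⟩
  obtain ⟨w, rfl⟩ := X.isExtension.proj_surjective z
  change φ.hom (X.incl (X.proj w)) = _
  rw [← dualToExt_mul, map_mul]
  refine Eq.trans ?_ ((dualToExt_mul Y (φ.hom w)).trans (congrArg _ (φ.π_hom w)))
  exact congrArg (· * φ.hom w) (φ.hom_algebraMap (DualNumber.eps : DualNumber k))

theorem exists_ofExt (D : DefAlg B (Art.dual k k)) : ∃ X : Exal.Ext k B B, (ofExt X).cl = D.cl := by
  letI : Algebra k D.carrier :=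
    ((algebraMap (Art.dual k k) D.carrier).comp (algebraMap k (Art.dual k k))).toAlgebra
  let ε : Art.dual k k := DualNumber.eps
  have hεm₀ : ∀ m : DualNumber k, TrivSqZeroExt.fst m = 0 → m * DualNumber.eps = 0 := fun m h0 => by
    rw [dual_decomp m, h0, map_zero, zero_add, mul_assoc, DualNumber.eps_mul_eps, mul_zero]
  have hεm : ∀ m ∈ 𝔪 (Art.dual k k), m * ε = 0 := fun m h =>
    hεm₀ m (((Art.dual k k).mem_maximalIdeal_iff m).1 h)
  have hle : 𝔪 (Art.dual k k) ≤ Ideal.span {ε} := fun m h => by
    have h0 : TrivSqZeroExt.fst (show DualNumber k from m) = 0 := ((Art.dual k k).mem_maximalIdeal_iff m).1 h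
    refine Ideal.mem_span_singleton'.2
      ⟨algebraMap k (DualNumber k) (TrivSqZeroExt.snd (show DualNumber k from m)), ?_⟩
    have h1 := (dual_decomp (show DualNumber k from m)).symm
    rw [h0, map_zero, zero_add] at h1
    exact h1
  have hε0 : ε ≠ 0 := fun h => one_ne_zero (congrArg (fun m : DualNumber k => TrivSqZeroExt.snd m) h)
  let ι : B →+ D.carrier :=
    { toFun := D.tInv ε
      map_zero' := by rw [← map_zero D.π, D.tInv_π hεm, smul_zero]
      map_add' := fun a b => by
        obtain ⟨d, rfl⟩ := D.π_surjective a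
        obtain ⟨e, rfl⟩ := D.π_surjective b
        rw [← map_add, D.tInv_π hεm, D.tInv_π hεm, D.tInv_π hεm, smul_add] }
  let X : Exal.Ext k B B :=
    { E := D.carrier
      proj := { toRingHom := D.π, commutes' := fun c => (D.π_algebraMap _).trans rfl }
      incl := ι
      isExtension :=
        { proj_surjective := D.π_surjective
          incl_injective := by
            rw [injective_iff_map_eq_zero]
            intro b hb
            obtain ⟨d, rfl⟩ := D.π_surjective b
            exact D.π_eq_zero_of_smul_eq_zero hε0 hεm ((D.tInv_π hεm d).symm.trans hb)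
          exact := fun x => by
            constructor
            · intro hx
              have h1 : x ∈ 𝔪 (Art.dual k k) • (⊤ : Submodule (Art.dual k k) D.carrier) :=
                (D.π_eq_zero_iff x).1 hx
              have h2 := Submodule.smul_mono_left hle h1
              rw [Submodule.ideal_span_singleton_smul, Submodule.mem_smul_pointwise_iff_exists] at h2
              obtain ⟨q, -, hq⟩ := h2
              exact ⟨D.π q, (D.tInv_π hεm q).trans hq⟩
            · rintro ⟨b, rfl⟩
              change D.π (ε • _) = 0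
              rw [Algebra.smul_def, map_mul, D.π_algebraMap, show (Art.dual k k).res ε = 0 from rfl, map_zero, zero_mul]
          mul_incl := fun x b => by
            obtain ⟨d, rfl⟩ := D.π_surjective b
            change x * D.tInv ε (D.π d) = D.tInv ε (D.π x * D.π d)
            rw [← map_mul, D.tInv_π hεm, D.tInv_π hεm, mul_smul_comm] } }
  refine ⟨X, DefAlg.cl_eq_iff.2 ⟨⟨RingHom.id D.carrier, fun a => ?_, fun _ => rfl⟩⟩⟩
  change dualToExt X a = algebraMap (Art.dual k k) D.carrier a
  have h1 : (D.tInv ε 1 : D.carrier) = algebraMap (Art.dual k k) D.carrier ε := by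
    rw [← map_one D.π, D.tInv_π hεm, Algebra.smul_def, mul_one]
  conv_lhs => rw [dual_decomp (show DualNumber k from a)]
  rw [map_add, map_mul, dualToExt_eps, AlgHom.commutes, AlgHom.commutes]
  refine Eq.trans ?_ (congrArg (algebraMap (Art.dual k k) D.carrier) (dual_decomp (show DualNumber k from a)).symm)
  refine Eq.trans ?_ (map_add (algebraMap (Art.dual k k) D.carrier) _ _).symm
  refine congrArg₂ (· + ·) rfl ?_
  refine Eq.trans ?_ (map_mul (algebraMap (Art.dual k k) D.carrier) _ _).symm
  exact congrArg₂ (· * ·) rfl h1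

theorem exists_def_dual_equiv :
    Nonempty ((defFunctor (Λ := k) (Spec (CommRingCat.of B)) (strMap k B)).obj (Art.dual k k) ≃ Exal.Exalcom k B B) := by
  refine ⟨(Equiv.ofBijective
    (Quotient.lift (s := Exal.Ext.setoid k B B) (fun X : Exal.Ext k B B => (ofExt X).cl) fun X Y h => DefAlg.cl_eq_iff.2 (h.elim fun e => ⟨equivToMap e⟩))
    ⟨?_, fun q => ?_⟩).symm⟩
  · intro a b
    induction a using Quotient.inductionOn with
    | h X =>
      induction b using Quotient.inductionOn with
      | h Y =>
        intro h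
        obtain ⟨φ⟩ := DefAlg.cl_eq_iff.1 h
        exact Quotient.sound (equiv_of_map φ)
  · obtain ⟨D, rfl⟩ := DefAlg.exists_cl q
    obtain ⟨X, hX⟩ := exists_ofExt D
    exact ⟨X.cl, hX⟩

end Groth.ArtfunDeform
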