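import Groth.Agent.ArtfunDeform.AlgDef.LiftAlg
import Groth.Agent.ArtfunDeform.CotT.Basic

/-!
Vanishing of `T²` of a finite presentation makes deformations unobstructed.
-/

set_option linter.style.haveILetI false
set_option linter.style.longLine false
set_option linter.unusedSectionVars false

noncomputable section

universe u

open CategoryTheory AlgebraicGeometry MvPolynomial TensorProduct

namespace Groth.ArtfunDeform

open ArtFun CotT

variable {k : Type u} [Field k] {B₀ : Type u} [CommRing B₀] [Algebra k B₀] {ι σ : Type u}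
variable (P : Algebra.Presentation k B₀ ι σ)

/-- The presentation as a `Pres`. -/
def Pres.ofPresentation : Pres (k := k) B₀ ι σ where
  ev := aeval P.val
  ev_surjective b := ⟨P.σ b, P.aeval_val_σ b⟩
  f := P.relation
  ker_ev := by
    rw [P.span_range_relation_eq_ker]
    ext x
    exact Iff.of_eq (congrArg (· = 0) (CotT.algebraMap_toExtension P x).symm)

theorem Pres.unobs_of_subsingleton_T2 [Fintype σ] (h : Subsingleton (T2 P B₀)) :
    (Pres.ofPresentation P).Unobs := by
  classical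
  intro o hadd hsmul htriv
  have hev : ∀ a : P.toExtension.Ring, (Pres.ofPresentation P).ev a = algebraMap P.toExtension.Ring B₀ a :=
    fun a => (CotT.algebraMap_toExtension P a).symm
  have hj : ∀ q : relMod P, Pres.j (R := P.toExtension.Ring) (rel P) ⇑q = jmap P q := fun q => by
    refine Eq.trans ?_ (Finsupp.linearCombination_apply P.toExtension.Ring q).symm
    exact (Finsupp.sum_fintype q (fun i a => a • rel P i) (fun i => zero_smul _ _)).symm
  let o' : relKer P →ₗ[P.toExtension.Ring] B₀ :=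
    { toFun := fun q => o ⇑(q : relMod P)
      map_add' := fun a b => hadd _ _ ((hj _).trans a.2) ((hj _).trans b.2)
      map_smul' := fun a q => (hsmul a _ ((hj _).trans q.2)).trans (by
        rw [hev, RingHom.id_apply, Algebra.smul_def]) }
  have hko : ∀ y ∈ trivRel P, Pres.j (R := P.toExtension.Ring) (rel P) ⇑y = 0 ∧ o ⇑y = 0 := fun y hy => by
    induction hy using Submodule.span_induction with
    | mem y hy =>
      obtain ⟨a, b, rfl⟩ := hy
      refine ⟨(hj _).trans (trivRel_le_relKer P (Submodule.subset_span ⟨a, b, rfl⟩)), ?_⟩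
      have h := htriv ⇑a ⇑b
      change o (Pres.j (R := P.toExtension.Ring) (rel P) ⇑a • ⇑b - Pres.j (R := P.toExtension.Ring) (rel P) ⇑b • ⇑a) = 0 at h
      rw [hj, hj] at h
      exact h
    | zero =>
      refine ⟨(hj 0).trans (map_zero _), ?_⟩
      exact map_zero o'
    | add a b _ _ ha hb =>
      refine ⟨(hj _).trans (by rw [map_add, ← hj, ← hj, ha.1, hb.1, add_zero]), ?_⟩
      exact (hadd ⇑a ⇑b ha.1 hb.1).trans ((congrArg₂ (· + ·) ha.2 hb.2).trans (add_zero 0))
    | smul c a _ ha =>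
      refine ⟨(hj _).trans (by rw [map_smul, ← hj, ha.1, smul_zero]), ?_⟩
      exact (hsmul c ⇑a ha.1).trans ((congrArg (_ * ·) ha.2).trans (mul_zero _))
  let φ : L2 P →ₗ[B₀] B₀ := Submodule.liftQ _ (o'.liftBaseChange B₀) (by
    rw [LinearMap.range_le_ker_iff]
    refine TensorProduct.AlgebraTensorModule.ext fun b q => ?_
    rw [LinearMap.comp_apply, LinearMap.baseChange_tmul, LinearMap.liftBaseChange_tmul, LinearMap.zero_apply]
    change b • o ⇑((q : relKer P) : relMod P) = 0
    exact (congrArg (b • ·) (hko _ q.2).2).trans (smul_zero b))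
  obtain ⟨ψ, hψ⟩ := (Submodule.Quotient.mk_eq_zero (LinearMap.range (d2Star P B₀))).1
    (h.elim (Submodule.Quotient.mk φ) 0)
  refine ⟨fun s => ψ ((1 : B₀) ⊗ₜ Finsupp.single s 1), fun r hr => ?_⟩
  let q₀ : relMod P := Finsupp.equivFunOnFinite.symm r
  have hq₀ : ⇑q₀ = r := Finsupp.equivFunOnFinite.apply_symm_apply r
  have hmem : jmap P q₀ = 0 := by
    rw [← hj, hq₀]
    exact hr
  have h1 : φ (l2mk P ⟨q₀, hmem⟩) = o r := by
    change (o'.liftBaseChange B₀) ((1 : B₀) ⊗ₜ _) = _
    rw [LinearMap.liftBaseChange_tmul, one_smul]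
    exact congrArg o hq₀
  have h2 : φ (l2mk P ⟨q₀, hmem⟩) = ψ ((1 : B₀) ⊗ₜ q₀) := by
    rw [← hψ, d2Star_apply, LinearMap.comp_apply, d2_l2mk]
  rw [← h1, h2, ← Finsupp.univ_sum_single q₀, TensorProduct.tmul_sum, map_sum]
  refine Finset.sum_congr rfl fun s _ => ?_
  rw [← Finsupp.smul_single_one s (q₀ s), TensorProduct.tmul_smul, TensorProduct.smul_tmul',
    Algebra.smul_def, mul_one, ← mul_one (algebraMap P.toExtension.Ring B₀ (q₀ s)), ← smul_eq_mul,
    ← TensorProduct.smul_tmul', map_smul, smul_eq_mul, hev, congrFun hq₀ s]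

variable {Λ : Type u} [CommRing Λ] [Algebra Λ k]

theorem Pres.exists_lift_surjective [Fintype σ] {Q : Pres (k := k) B₀ ι σ} (hQ : Q.Unobs)
    {A B : Art Λ k} (f : B ⟶ A) (hf : Function.Surjective f) (D : DefAlg B₀ A) :
    ∃ D' : DefAlg B₀ B, Nonempty (DefAlg.Map f D' D) := by
  revert D
  refine surj_induction (fun A B (p : B ⟶ A) => ∀ D : DefAlg B₀ A,
    ∃ D' : DefAlg B₀ B, Nonempty (DefAlg.Map p D' D)) ?_ ?_ ?_ f hf
  · intro A B e he D
    haveI := he
    obtain ⟨ψ, -⟩ := DefAlg.exists_map_of_map (((D.baseChange (inv e)).toBaseChange e).comp (D.toBaseChange (inv e)))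
    obtain ⟨ψ', -⟩ := DefAlg.exists_map_of_map ((DefAlg.Map.id D).cast (IsIso.inv_hom_id e).symm)
    exact ⟨D.baseChange (inv e), ⟨((ψ'.comp ψ.symm).comp ((D.baseChange (inv e)).toBaseChange e)).cast
      (by rw [Category.comp_id, Category.comp_id])⟩⟩
  · exact fun A B p hp D => Q.exists_lift hQ p hp D
  · intro A B C p q hp hq D
    obtain ⟨D₁, ⟨φ⟩⟩ := hq D
    obtain ⟨D₂, ⟨ψ⟩⟩ := hp D₁
    exact ⟨D₂, ⟨φ.comp ψ⟩⟩

/-- Unobstructed presentations give smooth deformation functors. -/
theorem Pres.isSmoothFunctor [Fintype σ] {Q : Pres (k := k) B₀ ι σ} (hQ : Q.Unobs) :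
    IsSmoothFunctor (defFunctor (Λ := Λ) (Spec (CommRingCat.of B₀)) (strMap k B₀)) := by
  intro B A μ hμ x
  obtain ⟨D, rfl⟩ := DefAlg.exists_cl x
  obtain ⟨D', ⟨φ⟩⟩ := exists_lift_surjective hQ μ hμ D
  exact ⟨D'.cl, DefAlg.map_cl φ⟩

end Groth.ArtfunDeform
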