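import Groth.Agent.ArtfunDeform.AlgDef.Tangent
import Groth.Agent.ArtfunDeform.AlgDef.LiftPres
import Groth.Agent.ArtfunDeform.PSIso
import Groth.Agent.ArtfunDeform.CotT.CI

/-!
Minimal presentations of coefficient rings and the bound on equations of a hull by `T²`.
-/

set_option linter.style.haveILetI false
set_option linter.style.longLine false
set_option linter.unusedSectionVars false

noncomputable section

universe u

open CategoryTheory AlgebraicGeometry TensorProduct MvPolynomial

namespace Groth.ArtfunDeform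

open ArtFun CotT

local notation "𝔪" => IsLocalRing.maximalIdeal

variable {k : Type u} [Field k]

/-- Factor a map through a surjection. -/
theorem exists_factor_homSet {S R : Type u} [CommRing S] [Algebra k S] [CommRing R] [Algebra k R]
    {resS : S →ₐ[k] k} {resR : R →ₐ[k] k} (θ : S →ₐ[k] R) (hθ : Function.Surjective θ) (hres : resR.comp θ = resS)
    {A : Art k k} (e : HomSet S resS A) (h : ∀ x, θ x = 0 → e.1 x = 0) :
    ∃ φ : HomSet R resR A, φ.1.comp θ = e.1 := by
  let f : R →+* A := RingHom.liftOfSurjective θ.toRingHom hθ ⟨e.1.toRingHom, h⟩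
  have hf : ∀ x, f (θ x) = e.1 x := fun x => RingHom.liftOfSurjective_comp_apply θ.toRingHom hθ _ x
  refine ⟨⟨{ toRingHom := f, commutes' := fun c => ?_ }, AlgHom.ext fun y => ?_⟩, AlgHom.ext hf⟩
  · change f (algebraMap k R c) = _
    rw [← θ.commutes, hf, e.1.commutes]
  · obtain ⟨x, rfl⟩ := hθ y
    change A.res (f (θ x)) = _
    rw [hf, homSet_res]
    exact (congrArg (fun g : S →ₐ[k] k => g x) hres).symm

/-- Morphisms out of a surjectively covered object. -/
theorem exists_hom_of_homSet {S : Type u} [CommRing S] [Algebra k S] {resS : S →ₐ[k] k} {A A' : Art k k}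
    (π' : HomSet S resS A') (hπ' : Function.Surjective π'.1) (π : HomSet S resS A)
    (h : ∀ x, π'.1 x = 0 → π.1 x = 0) : ∃ p : A' ⟶ A, HomSet.map p π' = π := by
  obtain ⟨φ, hφ⟩ := exists_factor_homSet (resR := A'.res) π'.1 hπ' π'.2 π h
  exact ⟨⟨φ.1, φ.2⟩, Subtype.ext hφ⟩

/-- Quotients of coefficient rings by open ideals. -/
theorem exists_quotArt (S : CRing k k) {K : Ideal S.carrier} (hK : K ≤ 𝔪 S.carrier) {N : ℕ}
    (hN : CRing.mpow S N ≤ K) :
    ∃ (A : Art k k) (π : HomSet S.carrier S.res A), Function.Surjective π.1 ∧ ∀ x, π.1 x = 0 ↔ x ∈ K := by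
  let q : S.carrier →+* (S.trunc N).carrier := Ideal.Quotient.mk (CRing.mpow S N)
  have hq : Function.Surjective q := Ideal.Quotient.mk_surjective
  have hK' : K.map q ≤ 𝔪 (S.trunc N).carrier :=
    Ideal.map_le_iff_le_comap.2 fun x hx => by
      rw [Ideal.mem_comap, Art.mem_maximalIdeal_iff]
      exact (homSet_res (S.truncHom N) x).trans ((CRing.mem_maximalIdeal_iff S x).1 (hK hx))
  refine ⟨Art.quot (S.trunc N) (K.map q) hK', HomSet.map (Art.quotMk _ _ hK') (S.truncHom N),
    (Art.quotMk_surjective _ _ hK').comp (truncHom_surjective S N), fun x => ?_⟩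
  refine Ideal.Quotient.eq_zero_iff_mem.trans ?_
  change q x ∈ K.map q ↔ _
  rw [← Ideal.mem_comap, Ideal.comap_map_of_surjective q hq, ← RingHom.ker_eq_comap_bot,
    show RingHom.ker q = CRing.mpow S N from Ideal.mk_ker,
    sup_eq_left.2 hN]

/-- A minimal presentation by power series, with tangent coordinates. -/
theorem exists_minPres (R : CRing k k) {n : ℕ} (hn : n = (𝔪 R.carrier).spanFinrank) :
    ∃ (S : CRing k k) (_ : S.carrier ≃ₐ[k] MvPowerSeries (Fin n) k) (θ : S.carrier →ₐ[k] R.carrier)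
      (C : HomSet R.carrier R.res (Art.dual k k) → (Fin n → k)),
      Function.Surjective θ ∧ R.res.comp θ = S.res ∧ (∀ x, θ x = 0 → x ∈ (𝔪 S.carrier) ^ 2) ∧
      Function.Bijective C ∧ (∀ c φ, C (HomSet.map (Art.scale c) φ) = c • C φ) ∧
      ∀ χ, C (HomSet.map Art.plus χ) = C (HomSet.map Art.pr₁ χ) + C (HomSet.map Art.pr₂ χ) := by
  classical
  have hk : Function.Surjective (algebraMap k k) := Function.surjective_id
  obtain ⟨s, hs, hsm⟩ := Submodule.FG.exists_span_finset_card_eq_spanFinrank
    (IsNoetherian.noetherian (𝔪 R.carrier))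
  obtain ⟨z, hz⟩ : ∃ z : Fin n → R.carrier, Ideal.span (Set.range z) = 𝔪 R.carrier := by
    subst hn
    rw [← hs]
    refine ⟨fun i => (s.equivFin.symm i : R.carrier), ?_⟩
    rw [← hsm]
    congr 1
    exact (Set.range_comp Subtype.val _).trans (by simp)
  have hzm : ∀ i, z i ∈ 𝔪 R.carrier := fun i => hz ▸ Ideal.subset_span ⟨i, rfl⟩
  haveI := R.isAdicComplete
  obtain ⟨θ, hθC, hθX⟩ := exists_eval (baseRing hk) (fromBase hk R) z hzm
  let S := psRing (baseRing hk) n
  haveI : IsAdicComplete (𝔪 S.carrier) S.carrier := S.isAdicComplete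
  haveI : IsNoetherianRing k := inferInstance
  have hθres : R.res.comp θ = S.res := by
    refine eval_ext (baseRing hk) (T := k) (AlgHom.ext fun a => ?_) (fun i => ?_) (fun i => ?_)
    · exact ((R.res.comp θ).comp (psC (baseRing hk) n)).commutes a |>.trans
        ((S.res.comp (psC (baseRing hk) n)).commutes a).symm
    · change R.res (θ (psX _ i)) = S.res (psX _ i)
      rw [hθX, (CRing.mem_maximalIdeal_iff R _).1 (hzm i), (CRing.mem_maximalIdeal_iff S _).1 (psX_mem _ i)]
    · change R.res (θ (psX _ i)) ∈ _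
      rw [hθX, (CRing.mem_maximalIdeal_iff R _).1 (hzm i)]
      exact zero_mem _
  have hθ : Function.Surjective θ := by
    refine surjective_of_map_maximalIdeal θ.toRingHom (exists_sub_mem θ hθres) (le_antisymm (sup_le ?_ ?_) ?_)
    · exact cring_map_le θ hθres
    · exact Ideal.pow_le_self two_ne_zero
    · rw [← hz, Ideal.span_le]
      rintro _ ⟨i, rfl⟩
      exact Submodule.mem_sup_left (hθX i ▸ Ideal.mem_map_of_mem θ.toRingHom (psX_mem _ i))
  have hmin : ∀ x, θ x = 0 → x ∈ (𝔪 S.carrier) ^ 2 := by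
    intro x hx
    obtain ⟨h, hh⟩ := ps_decomp (baseRing hk) x
    have hc : psC (baseRing hk) n (MvPowerSeries.constantCoeff (show MvPowerSeries (Fin n) (baseRing hk).carrier from x)) = 0 := by
      have h1 : R.res (θ x) = 0 := by rw [hx, map_zero]
      have h2 : MvPowerSeries.constantCoeff (show MvPowerSeries (Fin n) (baseRing hk).carrier from x) = (0 : (baseRing hk).carrier) :=
        (congrArg (fun g : S.carrier →ₐ[k] k => g x) hθres).symm.trans h1
      rw [h2, map_zero]
    rw [hc, zero_add] at hh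
    have hq : Finsupp.linearCombination R.carrier z (Finsupp.equivFunOnFinite.symm fun i => θ (h i)) = 0 := by
      rw [Finsupp.linearCombination_apply, Finsupp.sum_fintype _ (fun i a => a • z i) (fun i => zero_smul _ (z i)), ← hx]
      refine Eq.trans ?_ (congrArg θ hh).symm
      rw [map_sum]
      refine Finset.sum_congr rfl fun i _ => ?_
      rw [map_mul, hθX, Finsupp.coe_equivFunOnFinite_symm, smul_eq_mul, mul_comm]
    rw [hh, pow_two]
    refine Ideal.sum_mem _ fun i _ => Ideal.mul_mem_mul (psX_mem _ i) ?_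
    have hi : θ (h i) ∈ 𝔪 R.carrier := coeff_mem_maximalIdeal_of_minimal z hn.le hz _ hq i
    rw [CRing.mem_maximalIdeal_iff] at hi ⊢
    rwa [← hθres]
  let D := (Art.dual k k).carrier
  haveI : IsAdicComplete (𝔪 D) D := isAdicComplete_artinian D
  have hsq : ∀ a b : D, a ∈ 𝔪 D → b ∈ 𝔪 D → a * b = 0 := fun a b ha hb => by
    have ha' : TrivSqZeroExt.fst (show DualNumber k from a) = 0 := ((Art.dual k k).mem_maximalIdeal_iff a).1 ha
    have hb' : TrivSqZeroExt.fst (show DualNumber k from b) = 0 := ((Art.dual k k).mem_maximalIdeal_iff b).1 hb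
    refine TrivSqZeroExt.ext ?_ ?_
    · exact (TrivSqZeroExt.fst_mul (show DualNumber k from a) b).trans (by rw [ha', zero_mul]; rfl)
    · refine (TrivSqZeroExt.snd_mul (show DualNumber k from a) b).trans ?_
      rw [ha', hb']
      simp
      rfl
  let C : HomSet R.carrier R.res (Art.dual k k) → (Fin n → k) := fun φ i =>
    TrivSqZeroExt.snd (show DualNumber k from φ.1 (z i))
  have hext : ∀ (φ : HomSet R.carrier R.res (Art.dual k k)) (i : Fin n),
      φ.1 (z i) = (TrivSqZeroExt.inr (C φ i) : DualNumber k) := fun φ i =>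
    TrivSqZeroExt.ext ((homSet_res φ _).trans ((CRing.mem_maximalIdeal_iff R _).1 (hzm i))) rfl
  refine ⟨S, AlgEquiv.refl, θ, C, hθ, hθres, hmin, ⟨fun φ ψ h => ?_, fun v => ?_⟩, fun c φ => rfl, fun χ => rfl⟩
  · refine Subtype.ext ((AlgHom.cancel_right hθ).1 ?_)
    refine eval_ext (baseRing hk) (AlgHom.ext fun a => ?_) (fun i => ?_) (fun i => ?_)
    · exact ((φ.1.comp θ).comp (psC (baseRing hk) n)).commutes a |>.trans
        (((ψ.1.comp θ).comp (psC (baseRing hk) n)).commutes a).symm
    · change φ.1 (θ (psX _ i)) = ψ.1 (θ (psX _ i))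
      rw [hθX, hext, hext, congrFun h i]
    · change φ.1 (θ (psX _ i)) ∈ _
      rw [hθX, Art.mem_maximalIdeal_iff, homSet_res, (CRing.mem_maximalIdeal_iff R _).1 (hzm i)]
  · have hm : ∀ i, (TrivSqZeroExt.inr (v i) : DualNumber k) ∈ 𝔪 D := fun i =>
      ((Art.dual k k).mem_maximalIdeal_iff _).2 rfl
    obtain ⟨e, -, heX⟩ := exists_eval (baseRing hk) (T := D) (Algebra.ofId k D) _ hm
    have heres : (Art.dual k k).res.comp e = S.res := by
      refine eval_ext (baseRing hk) (T := k) (AlgHom.ext fun a => ?_) (fun i => ?_) (fun i => ?_)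
      · exact (((Art.dual k k).res.comp e).comp (psC (baseRing hk) n)).commutes a |>.trans
          ((S.res.comp (psC (baseRing hk) n)).commutes a).symm
      · change (Art.dual k k).res (e (psX _ i)) = S.res (psX _ i)
        rw [heX, (CRing.mem_maximalIdeal_iff S _).1 (psX_mem _ i)]
        rfl
      · change (Art.dual k k).res (e (psX _ i)) ∈ _
        rw [heX]
        exact zero_mem _
    have hker : ∀ x, θ x = 0 → e x = 0 := fun x hx => by
      have h2 := hmin x hx
      clear hx
      rw [pow_two] at h2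
      induction h2 using Submodule.mul_induction_on' with
      | mem_mul_mem a ha b hb =>
        rw [map_mul]
        refine hsq _ _ ?_ ?_ <;> rw [Art.mem_maximalIdeal_iff, ← AlgHom.comp_apply, heres, ← CRing.mem_maximalIdeal_iff]
        exacts [ha, hb]
      | add a _ b _ ha hb => rw [map_add, ha, hb, add_zero]
    obtain ⟨φ, hφ⟩ := exists_factor_homSet (resR := R.res) θ hθ hθres ⟨e, heres⟩ hker
    refine ⟨φ, funext fun i => ?_⟩
    change TrivSqZeroExt.snd (show DualNumber k from φ.1 (z i)) = v i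
    rw [← hθX, show φ.1 (θ (psX _ i)) = e (psX _ i) from congrArg (fun g : S.carrier →ₐ[k] D => g (psX _ i)) hφ, heX]
    rfl

section Classes

variable {B : Type u} [CommRing B] [Algebra k B] {ι σ : Type u} [Fintype σ] (P : Algebra.Presentation k B ι σ)

/-- A function on relations as a linear map on `L₂`. -/
theorem exists_l2_hom (o : (σ → MvPolynomial ι k) → B)
    (hadd : ∀ r r', Pres.j (Pres.ofPresentation P).f r = 0 → Pres.j (Pres.ofPresentation P).f r' = 0 → o (r + r') = o r + o r')
    (hsmul : ∀ a r, Pres.j (Pres.ofPresentation P).f r = 0 → o (a • r) = (Pres.ofPresentation P).ev a * o r)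
    (htriv : ∀ a b, o (Pres.j (Pres.ofPresentation P).f a • b - Pres.j (Pres.ofPresentation P).f b • a) = 0) :
    ∃ φ : L2 P →ₗ[B] B, ∀ q : relKer P, φ (l2mk P q) = o ⇑(q : relMod P) := by
  classical
  have hev : ∀ a : P.toExtension.Ring, (Pres.ofPresentation P).ev a = algebraMap P.toExtension.Ring B a :=
    fun a => (CotT.algebraMap_toExtension P a).symm
  have hj : ∀ q : relMod P, Pres.j (R := P.toExtension.Ring) (rel P) ⇑q = jmap P q := fun q => by
    refine Eq.trans ?_ (Finsupp.linearCombination_apply P.toExtension.Ring q).symm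
    exact (Finsupp.sum_fintype q (fun i a => a • rel P i) (fun i => zero_smul _ _)).symm
  let o' : relKer P →ₗ[P.toExtension.Ring] B :=
    { toFun := fun q => o ⇑(q : relMod P)
      map_add' := fun a b => hadd _ _ ((hj _).trans a.2) ((hj _).trans b.2)
      map_smul' := fun a q => (hsmul a _ ((hj _).trans q.2)).trans (by
        rw [hev, RingHom.id_apply, Algebra.smul_def]) }
  have hko : ∀ y ∈ trivRel P, Pres.j (R := P.toExtension.Ring) (rel P) ⇑y = 0 ∧ o ⇑y = 0 := fun y hy => by
    induction hy using Submodule.span_induction with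
    | mem y hy =>
      obtain ⟨a, b, rfl⟩ := hy
      refine ⟨(hj _).trans (trivRel_le_relKer P (Submodule.subset_span ⟨a, b, rfl⟩)), ?_⟩
      have h := htriv ⇑a ⇑b
      change o (Pres.j (R := P.toExtension.Ring) (rel P) ⇑a • ⇑b - Pres.j (R := P.toExtension.Ring) (rel P) ⇑b • ⇑a) = 0 at h
      rw [hj, hj] at h
      exact h
    | zero =>
      refine ⟨(hj 0).trans (map_zero _), ?_⟩
      exact map_zero o'
    | add a b _ _ ha hb =>
      refine ⟨(hj _).trans (by rw [map_add, ← hj, ← hj, ha.1, hb.1, add_zero]), ?_⟩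
      exact (hadd ⇑a ⇑b ha.1 hb.1).trans ((congrArg₂ (· + ·) ha.2 hb.2).trans (add_zero 0))
    | smul c a _ ha =>
      refine ⟨(hj _).trans (by rw [map_smul, ← hj, ha.1, smul_zero]), ?_⟩
      exact (hsmul c ⇑a ha.1).trans ((congrArg (_ * ·) ha.2).trans (mul_zero _))
  refine ⟨Submodule.liftQ _ (o'.liftBaseChange B) ?_, fun q => ?_⟩
  · rw [LinearMap.range_le_ker_iff]
    refine TensorProduct.AlgebraTensorModule.ext fun b q => ?_
    rw [LinearMap.comp_apply, LinearMap.baseChange_tmul, LinearMap.liftBaseChange_tmul, LinearMap.zero_apply]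
    change b • o ⇑((q : relKer P) : relMod P) = 0
    exact (congrArg (b • ·) (hko _ q.2).2).trans (smul_zero b)
  · change (o'.liftBaseChange B) ((1 : B) ⊗ₜ q) = _
    rw [LinearMap.liftBaseChange_tmul, one_smul]
    rfl

/-- Classes vanishing in `T²` are given by values on the generators. -/
theorem exists_c_of_toT2_eq_zero (φ : L2 P →ₗ[B] B) (h : toT2 P B φ = 0) :
    ∃ c : σ → B, ∀ r, Pres.j (Pres.ofPresentation P).f r = 0 → ∃ q : relKer P, ⇑(q : relMod P) = r ∧
      φ (l2mk P q) = ∑ s, (Pres.ofPresentation P).ev (r s) * c s := by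
  classical
  obtain ⟨ψ, hψ⟩ := (Submodule.Quotient.mk_eq_zero (LinearMap.range (d2Star P B))).1 h
  refine ⟨fun s => ψ ((1 : B) ⊗ₜ Finsupp.single s 1), fun r hr => ?_⟩
  have hev : ∀ a : P.toExtension.Ring, (Pres.ofPresentation P).ev a = algebraMap P.toExtension.Ring B a :=
    fun a => (CotT.algebraMap_toExtension P a).symm
  let q₀ : relMod P := Finsupp.equivFunOnFinite.symm r
  have hq₀ : ⇑q₀ = r := Finsupp.equivFunOnFinite.apply_symm_apply r
  have hmem : jmap P q₀ = 0 := by
    refine ((Finsupp.linearCombination_apply P.toExtension.Ring q₀).trans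
      (Finsupp.sum_fintype q₀ (fun i a => a • rel P i) (fun i => zero_smul _ _))).trans ?_
    rw [hq₀]
    exact hr
  refine ⟨⟨q₀, hmem⟩, hq₀, ?_⟩
  rw [← hψ, d2Star_apply, LinearMap.comp_apply, d2_l2mk]
  change ψ ((1 : B) ⊗ₜ q₀) = _
  rw [← Finsupp.univ_sum_single q₀, TensorProduct.tmul_sum, map_sum]
  refine Finset.sum_congr rfl fun s _ => ?_
  rw [← Finsupp.smul_single_one s (q₀ s), TensorProduct.tmul_smul, TensorProduct.smul_tmul',
    Algebra.smul_def, mul_one, ← mul_one (algebraMap P.toExtension.Ring B (q₀ s)), ← smul_eq_mul,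
    ← TensorProduct.smul_tmul', map_smul, smul_eq_mul, hev, congrFun hq₀ s]

/-- Equations which obstruct lifting inject into `T²`. -/
theorem le_finrank_T2 [Module.Finite k (T2 P B)] (S : CRing k k) {A : Art k k} (π : HomSet S.carrier S.res A)
    (hπ : Function.Surjective π.1) {r : ℕ} (g : Fin r → S.carrier) (K' : Ideal S.carrier) {N : ℕ}
    (hN : CRing.mpow S N ≤ K') (hK' : ∀ x ∈ K', π.1 x = 0) (hg : ∀ i, π.1 (g i) = 0)
    (hker : ∀ x, π.1 x = 0 → ∃ a : Fin r → k, x - ∑ i, a i • g i ∈ K')
    (hm : ∀ m ∈ 𝔪 S.carrier, ∀ i, m * g i ∈ K')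
    (hind : ∀ a : Fin r → k, ∑ i, a i • g i ∈ K' → a = 0) (D : DefAlg B A)
    (hno : ∀ (A' : Art k k) (p : A' ⟶ A) (π' : HomSet S.carrier S.res A'), Art.IsSmallExt p →
      HomSet.map p π' = π → (∀ x ∈ K', π'.1 x = 0) → (∃ i, π'.1 (g i) ≠ 0) →
      ∀ D' : DefAlg B A', ¬ Nonempty (DefAlg.Map p D' D)) :
    r ≤ Module.finrank k (T2 P B) := by
  classical
  let Q := Pres.ofPresentation P
  obtain ⟨x, F, hx, hqF, hredF⟩ := Q.exists_gens D
  obtain ⟨-, -, -, hrel⟩ := Q.gens_facts D x F hx hqF hredF
  choose F'' hF'' using fun s => MvPolynomial.map_surjective π.1.toRingHom hπ (F s)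
  let E : (Fin r → k) →ₗ[k] S.carrier := Fintype.linearCombination k g
  have hE : ∀ a, E a = ∑ i, a i • g i := fun a => Fintype.linearCombination_apply k g a
  have hEπ : ∀ a, π.1 (E a) = 0 := fun a => by
    rw [hE, map_sum]
    exact Finset.sum_eq_zero fun i _ => by rw [map_smul, hg, smul_zero]
  -- obstructions attached to functionals
  have key : ∀ l : Fin r → k, l ≠ 0 → ∃ o : (σ → MvPolynomial ι k) → B,
      ((∀ r r', Pres.j Q.f r = 0 → Pres.j Q.f r' = 0 → o (r + r') = o r + o r') ∧
      (∀ a r, Pres.j Q.f r = 0 → o (a • r) = Q.ev a * o r) ∧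
      (∀ a b, o (Pres.j Q.f a • b - Pres.j Q.f b • a) = 0)) ∧
      (∀ (R : σ → MvPolynomial ι S.carrier) (G : Fin r → MvPolynomial ι k),
        (∀ m, coeff m (Pres.j F'' R) - ∑ i, coeff m (G i) • g i ∈ K') →
        o (MvPolynomial.map S.res.toRingHom ∘ R) = Q.ev (∑ i, l i • G i)) ∧
      ¬ ∃ c : σ → B, ∀ r, Pres.j Q.f r = 0 → o r = ∑ s, Q.ev (r s) * c s := by
    intro l hl
    obtain ⟨i₀, hi₀⟩ : ∃ i, l i ≠ 0 := Function.ne_iff.1 hl
    let lam : (Fin r → k) →ₗ[k] k := Fintype.linearCombination k l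
    let c₀ : Fin r → k := Pi.single i₀ (l i₀)⁻¹
    have hlam : lam c₀ = 1 := by
      simp [lam, c₀, Fintype.linearCombination_apply, Pi.single_apply, hi₀]
    have hlam1 : ∀ j, lam (Pi.single j 1) = l j := fun j => by
      simp [lam, Fintype.linearCombination_apply, Pi.single_apply]
    let K : Ideal S.carrier :=
      { carrier := {y | ∃ c, lam c = 0 ∧ y - E c ∈ K'}
        zero_mem' := ⟨0, map_zero _, by rw [map_zero, sub_zero]; exact zero_mem _⟩
        add_mem' := fun {a b} ⟨c, hc, h⟩ ⟨c', hc', h'⟩ => ⟨c + c', by rw [map_add, hc, hc', add_zero],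
          by rw [map_add, add_sub_add_comm]; exact add_mem h h'⟩
        smul_mem' := fun a y ⟨c, hc, h⟩ => ⟨S.res a • c, by rw [map_smul, hc, smul_zero], by
          have e : a • y - E (S.res a • c) = a * (y - E c) + (a - algebraMap k S.carrier (S.res a)) * E c := by
            rw [map_smul, Algebra.smul_def (S.res a), smul_eq_mul]
            ring
          rw [e]
          refine add_mem (Ideal.mul_mem_left _ _ h) ?_
          rw [hE, Finset.mul_sum]
          refine Ideal.sum_mem _ fun i _ => ?_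
          rw [mul_smul_comm, Algebra.smul_def]
          refine Ideal.mul_mem_left _ _ (hm _ ?_ i)
          rw [CRing.mem_maximalIdeal_iff, map_sub, AlgHom.commutes, sub_eq_zero]
          rfl⟩ }
    have hK'K : K' ≤ K := fun y hy => ⟨0, map_zero _, by rwa [map_zero, sub_zero]⟩
    have hKπ : ∀ y ∈ K, π.1 y = 0 := fun y ⟨c, _, h⟩ => by
      have := hK' _ h
      rwa [map_sub, hEπ, sub_zero] at this
    have hKm : K ≤ 𝔪 S.carrier := fun y hy => by
      rw [CRing.mem_maximalIdeal_iff, ← homSet_res π, hKπ y hy, map_zero]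
    obtain ⟨A', π', hπ', hπ'0⟩ := exists_quotArt S hKm (hN.trans hK'K)
    obtain ⟨p, hp⟩ := exists_hom_of_homSet π' hπ' π fun y hy => hKπ y ((hπ'0 y).1 hy)
    have hpπ : ∀ y, p (π'.1 y) = π.1 y := fun y => congrArg (fun φ : HomSet S.carrier S.res A => φ.1 y) hp
    let t : A' := π'.1 (E c₀)
    have hEt : ∀ a, π'.1 (E a) = lam a • t := fun a => by
      rw [← map_smul π'.1, ← map_smul E, ← sub_eq_zero, ← map_sub, ← map_sub, hπ'0]
      exact ⟨a - lam a • c₀, by rw [map_sub, map_smul, hlam, smul_eq_mul, mul_one, sub_self],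
        by rw [sub_self]; exact zero_mem _⟩
    have hK'0 : ∀ y ∈ K', π'.1 y = 0 := fun y hy => (hπ'0 y).2 (hK'K hy)
    have hgt : ∀ j, π'.1 (g j) = l j • t := fun j => by
      rw [← hlam1 j, ← hEt]
      congr 1
      simp [hE, Pi.single_apply]
    have ht0 : t ≠ 0 := fun h => by
      obtain ⟨c, hc, hcK⟩ := (hπ'0 _).1 h
      rw [← map_sub, hE] at hcK
      have := congrArg lam (hind _ hcK)
      rw [map_sub, hlam, hc, map_zero, sub_zero] at this
      exact one_ne_zero this
    have htk : p t = 0 := by rw [hpπ, hEπ]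
    have hspan : RingHom.ker p.toAlgHom = Ideal.span {t} := by
      refine le_antisymm (fun y hy => ?_) ((Ideal.span_singleton_le_iff_mem _).2 htk)
      obtain ⟨y, rfl⟩ := hπ' y
      obtain ⟨a, ha⟩ := hker y ((hpπ y).symm.trans hy)
      rw [← hE] at ha
      have h1 := hK'0 _ ha
      rw [map_sub, hEt, sub_eq_zero] at h1
      rw [h1, Algebra.smul_def]
      exact Ideal.mul_mem_left _ _ (Ideal.mem_span_singleton_self t)
    have hsmall : Art.IsSmallExt p := by
      refine ⟨fun a => ?_, fun h => ht0 ?_, ⟨t, hspan⟩, ?_⟩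
      · obtain ⟨y, rfl⟩ := hπ a
        exact ⟨π'.1 y, hpπ y⟩
      · rwa [hspan, Ideal.span_singleton_eq_bot] at h
      · rw [hspan, eq_bot_iff, Ideal.mul_le]
        intro m hm' y hy
        obtain ⟨c, rfl⟩ := Ideal.mem_span_singleton'.1 hy
        obtain ⟨m, rfl⟩ := hπ' m
        have hmm : m ∈ 𝔪 S.carrier := by
          rw [CRing.mem_maximalIdeal_iff, ← homSet_res π']
          exact (A'.mem_maximalIdeal_iff _).1 hm'
        rw [Ideal.mem_bot, mul_left_comm, ← map_mul]
        refine (congrArg (c * ·) (hK'0 _ ?_)).trans (mul_zero _)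
        rw [hE, Finset.mul_sum]
        refine Ideal.sum_mem _ fun i _ => ?_
        rw [mul_smul_comm, Algebra.smul_def]
        exact Ideal.mul_mem_left _ _ (hm _ hmm i)
    let F' : σ → MvPolynomial ι A' := fun s => MvPolynomial.map π'.1.toRingHom (F'' s)
    have hF' : ∀ s, MvPolynomial.map p.toAlgHom.toRingHom (F' s) = F s := fun s => by
      rw [MvPolynomial.map_map]
      exact Eq.trans (congrArg (fun f : S.carrier →+* A.carrier => MvPolynomial.map f (F'' s))
        (RingHom.ext hpπ)) (hF'' s)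
    obtain ⟨o, h1, h2, h3, hwit, hlift⟩ := Q.exists_obstruction p hsmall hspan D x F hx hqF hredF F' hF'
    refine ⟨o, ⟨h1, h2, h3⟩, fun R G hRG => ?_, fun hc => ?_⟩
    · have hred : Pres.red A' ι ∘ (MvPolynomial.map π'.1.toRingHom ∘ R) = MvPolynomial.map S.res.toRingHom ∘ R := by
        funext s
        simp only [Function.comp_apply, Pres.red, MvPolynomial.map_map]
        exact congrArg (fun f : S.carrier →+* k => MvPolynomial.map f (R s)) (RingHom.ext (homSet_res π'))
      have hj : Pres.j F' (MvPolynomial.map π'.1.toRingHom ∘ R) =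
          MvPolynomial.C t * MvPolynomial.map (algebraMap k A') (∑ i, l i • G i) := by
        refine MvPolynomial.ext _ _ fun m => ?_
        rw [show Pres.j F' (MvPolynomial.map π'.1.toRingHom ∘ R) = MvPolynomial.map π'.1.toRingHom (Pres.j F'' R) from
          (Pres.map_j (MvPolynomial.map π'.1.toRingHom) F'' R).symm, coeff_map, coeff_C_mul, coeff_map, coeff_sum]
        have h4 := hK'0 _ (hRG m)
        rw [map_sub, ← hE, hEt, sub_eq_zero] at h4
        refine h4.trans ?_
        rw [Algebra.smul_def, mul_comm]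
        congr 2
        simp [lam, Fintype.linearCombination_apply, mul_comm]
      have := hwit _ _ hj
      rw [hred] at this
      refine this.trans (congrArg Q.ev ?_)
      rw [Pres.red, MvPolynomial.map_map]
      refine Eq.trans (congrArg (fun f : k →+* k => MvPolynomial.map f _) (RingHom.ext fun a => A'.res.commutes a)) ?_
      exact MvPolynomial.map_id _
    · obtain ⟨D', hD'⟩ := hlift hc
      refine hno A' p π' hsmall hp hK'0 ⟨i₀, fun h => ht0 ?_⟩ D' hD'
      rw [hgt] at h
      exact (smul_eq_zero.1 h).resolve_left hi₀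
  have h1ne : ∀ i : Fin r, (Pi.single i 1 : Fin r → k) ≠ 0 := fun i h => one_ne_zero (α := k) (by
    simpa using congrFun h i)
  choose o ho hwit hnc using key
  choose φ hφ using fun i => exists_l2_hom P (o _ (h1ne i)) (ho _ (h1ne i)).1 (ho _ (h1ne i)).2.1 (ho _ (h1ne i)).2.2
  let Φ : (Fin r → k) →ₗ[k] T2 P B := Fintype.linearCombination k fun i => toT2 P B (φ i)
  have hinj : Function.Injective Φ := by
    rw [injective_iff_map_eq_zero]
    intro l hl
    by_contra hl0
    have h0 : toT2 P B (∑ i, l i • φ i) = 0 := by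
      rw [map_sum, ← hl, Fintype.linearCombination_apply]
      exact Finset.sum_congr rfl fun i _ => (toT2 P B).map_smul_of_tower (l i) (φ i)
    obtain ⟨c, hc⟩ := exists_c_of_toT2_eq_zero P _ h0
    refine hnc l hl0 ⟨c, fun rr hr => ?_⟩
    obtain ⟨q, hq, hval⟩ := hc rr hr
    rw [← hval, LinearMap.sum_apply]
    -- a common witness
    obtain ⟨R₀, hR₀, hR₀r⟩ := hrel rr hr
    choose R hR using fun s => MvPolynomial.map_surjective π.1.toRingHom hπ (R₀ s)
    have hres : MvPolynomial.map S.res.toRingHom ∘ R = rr := by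
      rw [← hR₀r]
      funext s
      simp only [Function.comp_apply, Pres.red, ← hR s, MvPolynomial.map_map]
      exact congrArg (fun f : S.carrier →+* k => MvPolynomial.map f (R s)) (RingHom.ext fun y => (homSet_res π y).symm)
    have hzero : MvPolynomial.map π.1.toRingHom (Pres.j F'' R) = 0 := by
      rw [Pres.map_j, show MvPolynomial.map π.1.toRingHom ∘ F'' = F from funext hF'',
        show MvPolynomial.map π.1.toRingHom ∘ R = R₀ from funext hR, hR₀]
    choose a ha using fun m => hker (coeff m (Pres.j F'' R)) (by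
      have := congrArg (coeff m) hzero
      rwa [coeff_map, coeff_zero] at this)
    let G : Fin r → MvPolynomial ι k := fun i => ∑ m ∈ (Pres.j F'' R).support, monomial m (a m i)
    have hG : ∀ m, coeff m (Pres.j F'' R) - ∑ i, coeff m (G i) • g i ∈ K' := fun m => by
      by_cases hmem : m ∈ (Pres.j F'' R).support
      · rw [show ∑ i, coeff m (G i) • g i = ∑ i, a m i • g i from Finset.sum_congr rfl fun i _ => by
          congr 1
          simp only [G, coeff_sum, coeff_monomial]
          rw [Finset.sum_ite_eq', if_pos hmem]]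
        exact ha m
      · rw [notMem_support_iff.1 hmem, show ∑ i, coeff m (G i) • g i = 0 from Finset.sum_eq_zero fun i _ => by
          simp only [G, coeff_sum, coeff_monomial]
          rw [Finset.sum_ite_eq', if_neg hmem, zero_smul], sub_zero]
        exact zero_mem _
    have hval' : ∀ (l' : Fin r → k) (hl' : l' ≠ 0), o l' hl' rr = ∑ i, l' i • Q.ev (G i) := fun l' hl' => by
      rw [← hres, hwit l' hl' R G hG, map_sum]
      exact Finset.sum_congr rfl fun i _ => map_smul Q.ev _ _
    rw [hval' l hl0]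
    refine Finset.sum_congr rfl fun i _ => ?_
    rw [LinearMap.smul_apply, hφ, hq, hval' _ (h1ne i)]
    simp [Pi.single_apply]
  simpa using LinearMap.finrank_le_finrank_of_injective hinj

end Classes

end Groth.ArtfunDeform
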