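import Groth.Agent.ArtfunDeform.AlgDef.Rigid

/-!
The kernel of `D' → D` along a semismall extension `p : C' → C` with kernel `J` is `B₀ ⊗ J`.

* `DefAlg.kerIncl`: `B₀ ⊗ J → D'`, `b ⊗ j ↦ j • (lift of b)`; injective, with image the kernel of any map over `p`.
-/

set_option linter.style.haveILetI false
set_option linter.style.longLine false
set_option linter.unusedSectionVars false

noncomputable section

universe u

open CategoryTheory TensorProduct

namespace Groth.ArtfunDeform

open ArtFun

local notation "𝔪" => IsLocalRing.maximalIdeal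

variable {k : Type u} [Field k] {B₀ : Type u} [CommRing B₀] [Algebra k B₀] {C' C : Art k k} {p : C' ⟶ C}

variable (B₀ p) in
/-- `B₀ ⊗ J`. -/
abbrev KerMod : Type u := B₀ ⊗[k] ↥(RingHom.ker p.toAlgHom)

lemma ker_smul_eq (hp : Art.IsSemismallExt p) {a : C'} (ha : a ∈ 𝔪 C') {j : C'} (hj : j ∈ RingHom.ker p.toAlgHom) :
    a * j = 0 := by
  have := Ideal.mul_mem_mul ha hj
  rwa [hp.2, Ideal.mem_bot] at this

lemma res_ker {j : C'} (hj : j ∈ RingHom.ker p.toAlgHom) : C'.res j = 0 := by
  rw [← Art.res_app p j, show p j = 0 from hj, map_zero]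

lemma res_smul_ker (hp : Art.IsSemismallExt p) (a : C') (j : ↥(RingHom.ker p.toAlgHom)) :
    a • j = C'.res a • j := by
  refine Subtype.ext ?_
  change a * (j : C') = C'.res a • (j : C')
  rw [Algebra.smul_def, ← sub_eq_zero, ← sub_mul]
  refine ker_smul_eq hp ((C'.mem_maximalIdeal_iff _).2 ?_) j.2
  rw [map_sub, show C'.res (algebraMap k C' (C'.res a)) = C'.res a from C'.res.commutes _, sub_self]

namespace DefAlg

variable (hp : Art.IsSemismallExt p) (D : DefAlg B₀ C')

/-- `b ⊗ j ↦ j ⊗ (lift of b)`. -/
def kerToTensor : KerMod B₀ p →+ (↥(RingHom.ker p.toAlgHom) ⊗[C'] D.carrier) :=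
  TensorProduct.liftAddHom
    { toFun := fun b =>
        { toFun := fun j => j ⊗ₜ Function.surjInv D.π_surjective b
          map_zero' := TensorProduct.zero_tmul _ _
          map_add' := fun _ _ => TensorProduct.add_tmul _ _ _ }
      map_zero' := AddMonoidHom.ext fun j => by
        change j ⊗ₜ[C'] _ = 0
        have h : Function.surjInv D.π_surjective 0 ∈ 𝔪 C' • (⊤ : Submodule C' D.carrier) :=
          (D.π_eq_zero_iff _).1 (Function.surjInv_eq D.π_surjective 0)
        generalize Function.surjInv D.π_surjective (0 : B₀) = d at h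
        induction h using Submodule.smul_induction_on' with
        | smul a ha x _ =>
          rw [← TensorProduct.smul_tmul, show a • j = 0 from Subtype.ext (ker_smul_eq hp ha j.2), TensorProduct.zero_tmul]
        | add x _ y _ hx hy => rw [TensorProduct.tmul_add, hx, hy, add_zero]
      map_add' := fun b b' => AddMonoidHom.ext fun j => by
        change j ⊗ₜ[C'] _ = j ⊗ₜ[C'] _ + j ⊗ₜ[C'] _
        rw [← TensorProduct.tmul_add, ← sub_eq_zero, ← TensorProduct.tmul_sub]
        have h : Function.surjInv D.π_surjective (b + b') -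
            (Function.surjInv D.π_surjective b + Function.surjInv D.π_surjective b') ∈
            𝔪 C' • (⊤ : Submodule C' D.carrier) := by
          rw [← π_eq_zero_iff, map_sub, map_add, Function.surjInv_eq D.π_surjective, Function.surjInv_eq D.π_surjective,
            Function.surjInv_eq D.π_surjective, sub_self]
        generalize Function.surjInv D.π_surjective (b + b') -
          (Function.surjInv D.π_surjective b + Function.surjInv D.π_surjective b') = d at h
        induction h using Submodule.smul_induction_on' with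
        | smul a ha x _ =>
          rw [← TensorProduct.smul_tmul, show a • j = 0 from Subtype.ext (ker_smul_eq hp ha j.2), TensorProduct.zero_tmul]
        | add x _ y _ hx hy => rw [TensorProduct.tmul_add, hx, hy, add_zero] }
    fun c b j => by
      change j ⊗ₜ[C'] Function.surjInv D.π_surjective (c • b) = (c • j) ⊗ₜ[C'] Function.surjInv D.π_surjective b
      refine Eq.symm ?_
      rw [show c • j = algebraMap k C' c • j from (algebraMap_smul C' c j).symm, TensorProduct.smul_tmul,
        ← sub_eq_zero, ← TensorProduct.tmul_sub]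
      have h : algebraMap k C' c • Function.surjInv D.π_surjective b - Function.surjInv D.π_surjective (c • b) ∈
          𝔪 C' • (⊤ : Submodule C' D.carrier) := by
        rw [← π_eq_zero_iff, map_sub, Algebra.smul_def, map_mul, D.π_algebraMap, Function.surjInv_eq D.π_surjective,
          Function.surjInv_eq D.π_surjective, show C'.res (algebraMap k C' c) = c from C'.res.commutes c, Algebra.smul_def, sub_self]
      generalize algebraMap k C' c • Function.surjInv D.π_surjective b - Function.surjInv D.π_surjective (c • b) = d at h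
      induction h using Submodule.smul_induction_on' with
      | smul a ha x _ =>
        rw [← TensorProduct.smul_tmul, show a • j = 0 from Subtype.ext (ker_smul_eq hp ha j.2), TensorProduct.zero_tmul]
      | add x _ y _ hx hy => rw [TensorProduct.tmul_add, hx, hy, add_zero]

include hp in
lemma tmul_eq_of_π_eq (j : ↥(RingHom.ker p.toAlgHom)) {d e : D.carrier} (h : D.π d = D.π e) :
    j ⊗ₜ[C'] d = j ⊗ₜ[C'] e := by
  rw [← sub_eq_zero, ← TensorProduct.tmul_sub]
  have h' : d - e ∈ 𝔪 C' • (⊤ : Submodule C' D.carrier) := by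
    rw [← π_eq_zero_iff, map_sub, h, sub_self]
  generalize d - e = w at h'
  induction h' using Submodule.smul_induction_on' with
  | smul a ha x _ =>
    rw [← TensorProduct.smul_tmul, show a • j = 0 from Subtype.ext (ker_smul_eq hp ha j.2), TensorProduct.zero_tmul]
  | add x _ y _ hx hy => rw [TensorProduct.tmul_add, hx, hy, add_zero]

lemma kerToTensor_tmul (j : ↥(RingHom.ker p.toAlgHom)) {b : B₀} {d : D.carrier} (h : D.π d = b) :
    D.kerToTensor hp (b ⊗ₜ j) = j ⊗ₜ d := by
  change j ⊗ₜ[C'] Function.surjInv D.π_surjective b = _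
  exact tmul_eq_of_π_eq hp D j ((Function.surjInv_eq D.π_surjective b).trans h.symm)

/-- `j ⊗ d ↦ π d ⊗ j`. -/
def tensorToKer : (↥(RingHom.ker p.toAlgHom) ⊗[C'] D.carrier) →+ KerMod B₀ p :=
  TensorProduct.liftAddHom
    { toFun := fun j =>
        { toFun := fun d => D.π d ⊗ₜ j
          map_zero' := by rw [map_zero, TensorProduct.zero_tmul]
          map_add' := fun _ _ => by rw [map_add, TensorProduct.add_tmul] }
      map_zero' := AddMonoidHom.ext fun _ => TensorProduct.tmul_zero _ _
      map_add' := fun _ _ => AddMonoidHom.ext fun _ => TensorProduct.tmul_add _ _ _ }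
    fun a j d => by
      change D.π d ⊗ₜ[k] (a • j) = D.π (a • d) ⊗ₜ[k] j
      rw [res_smul_ker hp, Algebra.smul_def, map_mul, D.π_algebraMap, ← Algebra.smul_def, TensorProduct.smul_tmul]

lemma tensorToKer_kerToTensor (m : KerMod B₀ p) : D.tensorToKer hp (D.kerToTensor hp m) = m := by
  induction m using TensorProduct.induction_on with
  | zero => rw [map_zero, map_zero]
  | add x y hx hy => rw [map_add, map_add, hx, hy]
  | tmul b j =>
    change (D.π (Function.surjInv D.π_surjective b)) ⊗ₜ[k] j = _
    rw [Function.surjInv_eq D.π_surjective b]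

lemma kerToTensor_tensorToKer (z : ↥(RingHom.ker p.toAlgHom) ⊗[C'] D.carrier) :
    D.kerToTensor hp (D.tensorToKer hp z) = z := by
  induction z using TensorProduct.induction_on with
  | zero => rw [map_zero, map_zero]
  | add x y hx hy => rw [map_add, map_add, hx, hy]
  | tmul j d => exact D.kerToTensor_tmul hp j rfl

/-- `b ⊗ j ↦ j • (lift of b)`. -/
def kerIncl : KerMod B₀ p →+ D.carrier :=
  ((TensorProduct.lid C' D.carrier).toLinearMap ∘ₗ
    (RingHom.ker p.toAlgHom).subtype.rTensor D.carrier).toAddMonoidHom.comp (D.kerToTensor hp)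

lemma kerIncl_tmul (j : ↥(RingHom.ker p.toAlgHom)) {b : B₀} {d : D.carrier} (h : D.π d = b) :
    D.kerIncl hp (b ⊗ₜ j) = (j : C') • d := by
  change TensorProduct.lid C' D.carrier ((RingHom.ker p.toAlgHom).subtype.rTensor D.carrier (D.kerToTensor hp (b ⊗ₜ[k] j))) = _
  rw [D.kerToTensor_tmul hp j h, LinearMap.rTensor_tmul, TensorProduct.lid_tmul]
  rfl

lemma kerIncl_injective : Function.Injective (D.kerIncl hp) := fun m m' h => by
  have h1 := Module.Flat.rTensor_preserves_injective_linearMap (M := D.carrier) (RingHom.ker p.toAlgHom).subtype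
    Subtype.val_injective ((TensorProduct.lid C' D.carrier).injective h)
  simpa [tensorToKer_kerToTensor] using congrArg (D.tensorToKer hp) h1

lemma π_kerIncl (m : KerMod B₀ p) : D.π (D.kerIncl hp m) = 0 := by
  induction m using TensorProduct.induction_on with
  | zero => rw [map_zero, map_zero]
  | add x y hx hy => rw [map_add, map_add, hx, hy, add_zero]
  | tmul b j =>
    rw [D.kerIncl_tmul hp j (Function.surjInv_eq D.π_surjective b), Algebra.smul_def, map_mul, D.π_algebraMap,
      res_ker j.2, map_zero, zero_mul]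

lemma mul_kerIncl (d : D.carrier) (m : KerMod B₀ p) : d * D.kerIncl hp m = D.kerIncl hp (D.π d • m) := by
  induction m using TensorProduct.induction_on with
  | zero => rw [map_zero, mul_zero, smul_zero, map_zero]
  | add x y hx hy => rw [map_add, mul_add, hx, hy, smul_add, map_add]
  | tmul b j =>
    obtain ⟨e, rfl⟩ := D.π_surjective b
    rw [D.kerIncl_tmul hp j rfl, TensorProduct.smul_tmul', smul_eq_mul, ← map_mul, D.kerIncl_tmul hp j rfl,
      mul_smul_comm]

lemma smul_kerIncl_eq_zero {a : C'} (ha : a ∈ 𝔪 C') (m : KerMod B₀ p) : a • D.kerIncl hp m = 0 := by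
  rw [Algebra.smul_def, mul_kerIncl, D.π_algebraMap, show C'.res a = 0 from (C'.mem_maximalIdeal_iff a).1 ha,
    map_zero, zero_smul, map_zero]

lemma mem_range_kerIncl_iff (x : D.carrier) :
    x ∈ Set.range (D.kerIncl hp) ↔ x ∈ RingHom.ker p.toAlgHom • (⊤ : Submodule C' D.carrier) := by
  constructor
  · rintro ⟨m, rfl⟩
    induction m using TensorProduct.induction_on with
    | zero => rw [map_zero]; exact zero_mem _
    | add x y hx hy => rw [map_add]; exact add_mem hx hy
    | tmul b j =>
      rw [D.kerIncl_tmul hp j (Function.surjInv_eq D.π_surjective b)]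
      exact Submodule.smul_mem_smul j.2 Submodule.mem_top
  · intro hx
    induction hx using Submodule.smul_induction_on' with
    | smul a ha w _ => exact ⟨D.π w ⊗ₜ ⟨a, ha⟩, D.kerIncl_tmul hp ⟨a, ha⟩ rfl⟩
    | add a _ b _ ha hb =>
      obtain ⟨m, hm⟩ := ha
      obtain ⟨m', hm'⟩ := hb
      exact ⟨m + m', by rw [map_add, hm, hm']⟩

lemma exists_kerIncl_eq {D₁ : DefAlg B₀ C} (φ : Map p D D₁) {x : D.carrier} (hx : φ.hom x = 0) :
    ∃ m, D.kerIncl hp m = x := (D.mem_range_kerIncl_iff hp x).2 (φ.mem_ker hp.1 hx)

lemma map_kerIncl {D₁ : DefAlg B₀ C} (φ : Map p D D₁) (m : KerMod B₀ p) : φ.hom (D.kerIncl hp m) = 0 :=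
  φ.eq_zero_of_mem ((D.mem_range_kerIncl_iff hp _).1 ⟨m, rfl⟩)

lemma kerIncl_natural {D' : DefAlg B₀ C'} (ψ : Map (𝟙 C') D D') (m : KerMod B₀ p) :
    ψ.hom (D.kerIncl hp m) = D'.kerIncl hp m := by
  induction m using TensorProduct.induction_on with
  | zero => rw [map_zero, map_zero, map_zero]
  | add x y hx hy => rw [map_add, map_add, map_add, hx, hy]
  | tmul b j =>
    obtain ⟨e, rfl⟩ := D.π_surjective b
    rw [D.kerIncl_tmul hp j rfl, ψ.hom_smul, D'.kerIncl_tmul hp j (ψ.π_hom e)]
    rfl

end DefAlg

end Groth.ArtfunDeform
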