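import Groth.Agent.ArtfunDeform.AlgDef.Rigid
import Groth.Agent.FlatMor2.NilFlat

/-!
Lifting a deformation of a presented algebra along a small extension.

`Pres B₀ ι σ` is a surjection `k[ι] → B₀` with finitely many generators of its kernel; `Pres.Unobs` says that every
linear function on relations killing the Koszul relations is given by values on the generators (`T² = 0`);
`Pres.exists_lift` lifts deformations under this hypothesis, over any coefficient ring `Λ`.
-/

set_option linter.style.haveILetI false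
set_option linter.style.longLine false
set_option linter.unusedSectionVars false

noncomputable section

universe u

open CategoryTheory MvPolynomial TensorProduct

namespace Groth.ArtfunDeform

open ArtFun

local notation "𝔪" => IsLocalRing.maximalIdeal

/-- The kernel of a surjection of flat modules is flat. -/
theorem flat_ker_of_surjective {A X Y : Type u} [CommRing A] [AddCommGroup X] [Module A X] [AddCommGroup Y]
    [Module A Y] [Module.Flat A X] [Module.Flat A Y] (g : X →ₗ[A] Y) (hg : Function.Surjective g) :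
    Module.Flat A (LinearMap.ker g) := by
  have hex : Function.Exact (LinearMap.ker g).subtype g := LinearMap.exact_subtype_ker_map g
  have hinj : ∀ (M : Type u) [AddCommGroup M] [Module A M],
      Function.Injective ((LinearMap.ker g).subtype.rTensor M) := fun M _ _ => by
    rw [← LinearMap.lTensor_inj_iff_rTensor_inj]
    exact LinearMap.lTensor_injective_of_exact_of_flat g hg _ Subtype.val_injective hex M
  refine Module.Flat.iff_lTensor_preserves_injective_linearMap.2 fun M N _ _ _ _ φ hφ => ?_
  refine Function.Injective.of_comp (f := (LinearMap.ker g).subtype.rTensor N) ?_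
  rw [← LinearMap.coe_comp, LinearMap.rTensor_comp_lTensor, ← LinearMap.lTensor_comp_rTensor, LinearMap.coe_comp]
  exact (Module.Flat.lTensor_preserves_injective_linearMap φ hφ).comp (hinj M)

variable {k : Type u} [Field k]

/-- A presentation of a `k`-algebra by finitely many relations. -/
structure Pres (B₀ : Type u) [CommRing B₀] [Algebra k B₀] (ι σ : Type u) where
  /-- The quotient map. -/
  ev : MvPolynomial ι k →ₐ[k] B₀
  ev_surjective : Function.Surjective ev
  /-- The relations. -/
  f : σ → MvPolynomial ι k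
  ker_ev : RingHom.ker ev = Ideal.span (Set.range f)

namespace Pres

variable {B₀ : Type u} [CommRing B₀] [Algebra k B₀] {ι σ : Type u} [Fintype σ] (Q : Pres (k := k) B₀ ι σ)

/-- Relation-sum. -/
def j {R : Type u} [CommRing R] (F : σ → R) (r : σ → R) : R := ∑ s, r s * F s

/-- `T² = 0`. -/
def Unobs : Prop :=
  ∀ o : (σ → MvPolynomial ι k) → B₀,
    (∀ r r', j Q.f r = 0 → j Q.f r' = 0 → o (r + r') = o r + o r') →
    (∀ a r, j Q.f r = 0 → o (a • r) = Q.ev a * o r) →
    (∀ a b, o (j Q.f a • b - j Q.f b • a) = 0) →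
    ∃ c : σ → B₀, ∀ r, j Q.f r = 0 → o r = ∑ s, Q.ev (r s) * c s

lemma j_mem {R : Type u} [CommRing R] (F r : σ → R) : j F r ∈ Ideal.span (Set.range F) :=
  Ideal.sum_mem _ fun s _ => Ideal.mul_mem_left _ _ (Ideal.subset_span ⟨s, rfl⟩)

lemma exists_j {R : Type u} [CommRing R] {F : σ → R} {x : R} (hx : x ∈ Ideal.span (Set.range F)) :
    ∃ r, j F r = x := Ideal.mem_span_range_iff_exists_fun.1 hx

lemma map_j {R S : Type u} [CommRing R] [CommRing S] (h : R →+* S) (F r : σ → R) :
    h (j F r) = j (h ∘ F) (h ∘ r) := by simp [j, map_sum]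

lemma j_add {R : Type u} [CommRing R] (F r r' : σ → R) : j F (r + r') = j F r + j F r' := by
  simp [j, add_mul, Finset.sum_add_distrib]

lemma j_sub {R : Type u} [CommRing R] (F r r' : σ → R) : j F (r - r') = j F r - j F r' := by
  simp [j, sub_mul, Finset.sum_sub_distrib]

lemma j_smul {R : Type u} [CommRing R] (F : σ → R) (a : R) (r : σ → R) : j F (a • r) = a * j F r := by
  simp [j, Finset.mul_sum, mul_assoc]

lemma j_sub_mul {R : Type u} [CommRing R] (F C : σ → R) (u : R) (r : σ → R) :
    j (fun s => F s - u * C s) r = j F r - u * j C r := by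
  simp [j, mul_sub, Finset.sum_sub_distrib, Finset.mul_sum, mul_left_comm]

variable {Λ : Type u} [CommRing Λ] [Algebra Λ k] {A A' : Art Λ k}

/-- Reduction of polynomials. -/
abbrev red (A : Art Λ k) (ι : Type u) : MvPolynomial ι A →+* MvPolynomial ι k :=
  MvPolynomial.map A.res.toRingHom

lemma red_surjective (A : Art Λ k) : Function.Surjective (red A ι) :=
  MvPolynomial.map_surjective _ A.res_surjective

lemma ker_red (A : Art Λ k) : RingHom.ker (red A ι) = (𝔪 A).map MvPolynomial.C := by
  rw [MvPolynomial.ker_map, show RingHom.ker A.res.toRingHom = 𝔪 A from ker_res A]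

lemma mem_smul_top_iff_red (x : MvPolynomial ι A) :
    x ∈ 𝔪 A • (⊤ : Submodule A (MvPolynomial ι A)) ↔ red A ι x = 0 := by
  rw [Ideal.smul_top_eq_map, Submodule.restrictScalars_mem, MvPolynomial.algebraMap_eq, ← ker_red, RingHom.mem_ker]

lemma red_map (p : A' ⟶ A) (x : MvPolynomial ι A') :
    red A ι (MvPolynomial.map p.toAlgHom.toRingHom x) = red A' ι x := by
  rw [red, red, MvPolynomial.map_map]
  congr 1
  exact MvPolynomial.ringHom_ext (fun a => by simp [Art.res_app p a]) (fun i => by simp)

/-- Lifts of the generators and of the relations to a deformation. -/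
theorem exists_gens (D : DefAlg B₀ A) : ∃ (x : ι → D.carrier) (F : σ → MvPolynomial ι A),
    (∀ i, D.π (x i) = Q.ev (X i)) ∧ (∀ s, aeval x (F s) = 0) ∧ ∀ s, red A ι (F s) = Q.f s := by
  classical
  choose x hx using fun i => D.π_surjective (Q.ev (X i))
  let q : MvPolynomial ι A →ₐ[A] D.carrier := aeval x
  have hπq : ∀ P, D.π (q P) = Q.ev (red A ι P) := fun P => by
    refine RingHom.congr_fun (MvPolynomial.ringHom_ext (f := D.π.comp q.toRingHom)
      (g := Q.ev.toRingHom.comp (red A ι)) (fun a => ?_) (fun i => ?_)) P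
    · simp [q, D.π_algebraMap]
    · simp [q, hx]
  have hq : Function.Surjective q := fun d => by
    refine Groth.FlatMor2.le_of_le_sup_smul_of_isNilpotent (isNilpotent_maximalIdeal A)
      (N := (⊤ : Submodule A D.carrier)) (N' := LinearMap.range q.toLinearMap) (fun y _ => ?_)
      (Submodule.mem_top (x := d))
    obtain ⟨P₀, hP₀⟩ := Q.ev_surjective (D.π y)
    obtain ⟨P, rfl⟩ := red_surjective A P₀
    refine Submodule.mem_sup.2 ⟨q P, ⟨P, rfl⟩, y - q P, ?_, add_sub_cancel _ _⟩
    rw [← DefAlg.π_eq_zero_iff, map_sub, hπq, hP₀, sub_self]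
  let K : Ideal (MvPolynomial ι A) := RingHom.ker q
  have hKm : ∀ z, q z = 0 → red A ι z = 0 → z ∈ (𝔪 A).map MvPolynomial.C * K := fun z h1 h2 => by
    have h := Groth.FlatMor2.inf_smul_top_le_smul_of_flat q.toLinearMap hq (𝔪 A)
      ⟨h1, (mem_smul_top_iff_red z).2 h2⟩
    clear h1 h2
    induction h using Submodule.smul_induction_on' with
    | smul a ha w hw =>
      rw [Algebra.smul_def, MvPolynomial.algebraMap_eq]
      exact Ideal.mul_mem_mul (Ideal.mem_map_of_mem _ ha) hw
    | add a _ b _ ha hb => exact add_mem ha hb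
  have hF : ∀ s, ∃ F, q F = 0 ∧ red A ι F = Q.f s := fun s => by
    obtain ⟨G, hG⟩ := red_surjective A (Q.f s)
    have h : D.π (q G) = 0 := by
      rw [hπq, hG]
      exact Q.ker_ev.ge (Ideal.subset_span ⟨s, rfl⟩)
    have h' : q G ∈ (𝔪 A • (⊤ : Submodule A (MvPolynomial ι A))).map q.toLinearMap := by
      rw [Submodule.map_smul'', Submodule.map_top, LinearMap.range_eq_top.2 hq, ← DefAlg.π_eq_zero_iff]
      exact h
    obtain ⟨M, hM, hMG⟩ := h'
    exact ⟨G - M, (map_sub q G M).trans (sub_eq_zero.2 hMG.symm),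
      by rw [map_sub, hG, (mem_smul_top_iff_red M).1 hM, sub_zero]⟩
  choose F hqF hredF using hF
  exact ⟨x, F, hx, hqF, hredF⟩

/-- The relations of the lifted generators. -/
theorem gens_facts (D : DefAlg B₀ A) (x : ι → D.carrier) (F : σ → MvPolynomial ι A)
    (hx : ∀ i, D.π (x i) = Q.ev (X i)) (hqF : ∀ s, aeval x (F s) = 0) (hredF : ∀ s, red A ι (F s) = Q.f s) :
    Function.Surjective (aeval x : MvPolynomial ι A →ₐ[A] D.carrier) ∧
      (RingHom.ker (aeval x : MvPolynomial ι A →ₐ[A] D.carrier) = Ideal.span (Set.range F)) ∧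
      (∀ r, j F r = 0 → (∀ s, red A ι (r s) = 0) →
        r ∈ 𝔪 A • LinearMap.ker (R := A) (Fintype.linearCombination (MvPolynomial ι A) F |>.restrictScalars A)) ∧
      ∀ r, j Q.f r = 0 → ∃ R, j F R = 0 ∧ red A ι ∘ R = r := by
  classical
  let q : MvPolynomial ι A →ₐ[A] D.carrier := aeval x
  have hπq : ∀ P, D.π (q P) = Q.ev (red A ι P) := fun P => by
    refine RingHom.congr_fun (MvPolynomial.ringHom_ext (f := D.π.comp q.toRingHom)
      (g := Q.ev.toRingHom.comp (red A ι)) (fun a => ?_) (fun i => ?_)) P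
    · simp [q, D.π_algebraMap]
    · simp [q, hx]
  have hq : Function.Surjective q := fun d => by
    refine Groth.FlatMor2.le_of_le_sup_smul_of_isNilpotent (isNilpotent_maximalIdeal A)
      (N := (⊤ : Submodule A D.carrier)) (N' := LinearMap.range q.toLinearMap) (fun y _ => ?_)
      (Submodule.mem_top (x := d))
    obtain ⟨P₀, hP₀⟩ := Q.ev_surjective (D.π y)
    obtain ⟨P, rfl⟩ := red_surjective A P₀
    refine Submodule.mem_sup.2 ⟨q P, ⟨P, rfl⟩, y - q P, ?_, add_sub_cancel _ _⟩
    rw [← DefAlg.π_eq_zero_iff, map_sub, hπq, hP₀, sub_self]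
  let K : Ideal (MvPolynomial ι A) := RingHom.ker q
  have hKm : ∀ z, q z = 0 → red A ι z = 0 → z ∈ (𝔪 A).map MvPolynomial.C * K := fun z h1 h2 => by
    have h := Groth.FlatMor2.inf_smul_top_le_smul_of_flat q.toLinearMap hq (𝔪 A)
      ⟨h1, (mem_smul_top_iff_red z).2 h2⟩
    clear h1 h2
    induction h using Submodule.smul_induction_on' with
    | smul a ha w hw =>
      rw [Algebra.smul_def, MvPolynomial.algebraMap_eq]
      exact Ideal.mul_mem_mul (Ideal.mem_map_of_mem _ ha) hw
    | add a _ b _ ha hb => exact add_mem ha hb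
  have hredjF : ∀ r, red A ι (j F r) = j Q.f (red A ι ∘ r) := fun r => by
    rw [map_j]
    congr 1
    exact funext hredF
  have hK : K = Ideal.span (Set.range F) := by
    refine le_antisymm ?_ (Ideal.span_le.2 (Set.range_subset_iff.2 hqF))
    refine Groth.FlatMor2.le_of_le_sup_smul_of_isNilpotent (J := (𝔪 A).map MvPolynomial.C) ?_ fun z hz => ?_
    · obtain ⟨n, hn⟩ := isNilpotent_maximalIdeal A
      exact ⟨n, by rw [← Ideal.map_pow, hn, Ideal.zero_eq_bot, Ideal.map_bot]; rfl⟩
    · have h : red A ι z ∈ Ideal.span (Set.range Q.f) := by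
        rw [← Q.ker_ev, RingHom.mem_ker, ← hπq, show q z = 0 from hz, map_zero]
      obtain ⟨r, hr⟩ := exists_j h
      choose r' hr' using fun s => red_surjective A (r s)
      refine Submodule.mem_sup.2 ⟨j F r', j_mem F r', z - j F r', ?_, add_sub_cancel _ _⟩
      refine hKm _ ?_ ?_
      · rw [map_sub, show q z = 0 from hz, zero_sub, neg_eq_zero, j, map_sum]
        exact Finset.sum_eq_zero fun s _ => by rw [map_mul, hqF, mul_zero]
      · rw [map_sub, hredjF, show red A ι ∘ r' = r from funext hr', hr, sub_self]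
  -- relations of `F`
  let L : (σ → MvPolynomial ι A) →ₗ[A] MvPolynomial ι A :=
    { toFun := j F
      map_add' := j_add F
      map_smul' := fun a r => by simp [j, Finset.smul_sum] }
  have hjq : ∀ r, q (j F r) = 0 := fun r => by
    rw [j, map_sum]
    exact Finset.sum_eq_zero fun s _ => by rw [map_mul, hqF, mul_zero]
  let L' : (σ → MvPolynomial ι A) →ₗ[A] LinearMap.ker q.toLinearMap := L.codRestrict _ hjq
  have hL' : Function.Surjective L' := fun z => by
    obtain ⟨r, hr⟩ := exists_j (hK.le z.2)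
    exact ⟨r, Subtype.ext hr⟩
  haveI : Module.Flat A (LinearMap.ker q.toLinearMap) := flat_ker_of_surjective _ hq
  have hrelm : ∀ r, j F r = 0 → (∀ s, red A ι (r s) = 0) → r ∈ 𝔪 A • LinearMap.ker L := fun r h1 h2 => by
    have hker : LinearMap.ker L' = LinearMap.ker L := LinearMap.ker_codRestrict _ _ _
    rw [← hker]
    refine Groth.FlatMor2.inf_smul_top_le_smul_of_flat L' hL' (𝔪 A) ⟨Subtype.ext h1, ?_⟩
    rw [show r = ∑ s, LinearMap.single A (fun _ : σ => MvPolynomial ι A) s (r s) from
      (Finset.univ_sum_single r).symm]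
    refine Submodule.sum_mem _ fun s _ => ?_
    have := Submodule.mem_map_of_mem (f := LinearMap.single A (fun _ : σ => MvPolynomial ι A) s)
      ((mem_smul_top_iff_red (r s)).2 (h2 s))
    rw [Submodule.map_smul''] at this
    exact Submodule.smul_mono le_rfl le_top this
  have hrel : ∀ r, j Q.f r = 0 → ∃ R, j F R = 0 ∧ red A ι ∘ R = r := fun r hr => by
    choose R hR using fun s => red_surjective A (r s)
    have h : red A ι (j F R) = 0 := by rw [hredjF, show red A ι ∘ R = r from funext hR, hr]
    have h' := hKm _ (hjq R) h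
    rw [hK] at h'
    obtain ⟨e, he, hsum⟩ : ∃ e : σ → MvPolynomial ι A, (∀ s, red A ι (e s) = 0) ∧ j F e = j F R := by
      obtain ⟨e, he, hsum⟩ := (Submodule.mem_ideal_smul_span_iff_exists_sum _ F _).1 h'
      refine ⟨fun s => e s, fun s => ?_, ?_⟩
      · exact (ker_red (ι := ι) A).ge (he s)
      · rw [Finsupp.sum_fintype e (fun i c => c • F i) (fun i => zero_smul _ (F i))] at hsum
        exact hsum
    refine ⟨R - e, by rw [j_sub, hsum, sub_self], funext fun s => ?_⟩
    rw [Function.comp_apply, Pi.sub_apply, map_sub, hR, he, sub_zero]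
  refine ⟨hq, hK, fun r h1 h2 => ?_, hrel⟩
  have hL : LinearMap.ker (Fintype.linearCombination (MvPolynomial ι A) F |>.restrictScalars A) = LinearMap.ker L :=
    Submodule.ext fun r => Iff.of_eq (congrArg (· = 0) (Fintype.linearCombination_apply (MvPolynomial ι A) F r))
  rw [hL]
  exact hrelm r h1 h2

/-- The obstruction to lifting along a small extension: a function on relations, computed by any lift of a relation, whose
vanishing in `T²` gives a lift. -/
theorem exists_obstruction (p : A' ⟶ A) (hp : Art.IsSmallExt p) {t : A'} (ht : RingHom.ker p.toAlgHom = Ideal.span {t})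
    (D : DefAlg B₀ A) (x : ι → D.carrier) (F : σ → MvPolynomial ι A)
    (hx : ∀ i, D.π (x i) = Q.ev (X i)) (hqF : ∀ s, aeval x (F s) = 0) (hredF : ∀ s, red A ι (F s) = Q.f s)
    (F' : σ → MvPolynomial ι A') (hF' : ∀ s, MvPolynomial.map p.toAlgHom.toRingHom (F' s) = F s) :
    ∃ o : (σ → MvPolynomial ι k) → B₀,
      (∀ r r', j Q.f r = 0 → j Q.f r' = 0 → o (r + r') = o r + o r') ∧
      (∀ a r, j Q.f r = 0 → o (a • r) = Q.ev a * o r) ∧
      (∀ a b, o (j Q.f a • b - j Q.f b • a) = 0) ∧
      (∀ (R' : σ → MvPolynomial ι A') (G : MvPolynomial ι A'), j F' R' = C t * G →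
        o (red A' ι ∘ R') = Q.ev (red A' ι G)) ∧
      ((∃ c : σ → B₀, ∀ r, j Q.f r = 0 → o r = ∑ s, Q.ev (r s) * c s) →
        ∃ D' : DefAlg B₀ A', Nonempty (DefAlg.Map p D' D)) := by
  classical
  obtain ⟨hsurj, hne, -, hm⟩ := hp
  have htk : t ∈ RingHom.ker p.toAlgHom := ht ▸ Submodule.mem_span_singleton_self t
  have hpt : p t = 0 := htk
  have ht0 : t ≠ 0 := fun h => hne (by rw [ht, h, Ideal.span_singleton_eq_bot.2 rfl])
  have htm : ∀ m ∈ 𝔪 A', m * t = 0 := fun m hm' => by
    have := Ideal.mul_mem_mul hm' htk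
    rwa [hm, Ideal.mem_bot] at this
  have hres : A'.res t = 0 := by rw [← Art.res_app p t, hpt, map_zero]
  let T : MvPolynomial ι A' := C t
  let pm : MvPolynomial ι A' →+* MvPolynomial ι A := MvPolynomial.map p.toAlgHom.toRingHom
  have hpm : Function.Surjective pm := MvPolynomial.map_surjective _ hsurj
  have hpmT : pm T = 0 := by
    rw [MvPolynomial.map_C]
    exact (congrArg C hpt).trans (map_zero _)
  have hkpm : ∀ x, pm x = 0 → ∃ y, x = T * y := fun x hx => by
    have h : x ∈ RingHom.ker pm := hx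
    rw [MvPolynomial.ker_map, show RingHom.ker p.toAlgHom.toRingHom = Ideal.span {t} from ht, Ideal.map_span,
      Set.image_singleton, Ideal.mem_span_singleton] at h
    exact h
  have hredT : red A' ι T = 0 := by
    rw [MvPolynomial.map_C]
    exact (congrArg C hres).trans (map_zero _)
  have hTeq : ∀ y₁ y₂, red A' ι y₁ = red A' ι y₂ ↔ T * y₁ = T * y₂ := fun y₁ y₂ => by
    rw [← sub_eq_zero, ← map_sub, ← sub_eq_zero (a := T * y₁), ← mul_sub]
    constructor
    · intro h
      refine MvPolynomial.ext _ _ fun m => ?_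
      rw [coeff_C_mul, coeff_zero, mul_comm]
      refine htm _ ((A'.mem_maximalIdeal_iff _).2 ?_)
      have := congrArg (coeff m) h
      rwa [coeff_map, coeff_zero] at this
    · intro h
      refine MvPolynomial.ext _ _ fun m => ?_
      rw [coeff_map, coeff_zero]
      refine (A'.mem_maximalIdeal_iff _).1 ((IsLocalRing.mem_maximalIdeal _).2 fun hu => ht0 ?_)
      have := congrArg (coeff m) h
      rw [coeff_C_mul, coeff_zero] at this
      exact hu.mul_left_eq_zero.1 this
  let q : MvPolynomial ι A →ₐ[A] D.carrier := aeval x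
  have hπq : ∀ P, D.π (q P) = Q.ev (red A ι P) := fun P => by
    refine RingHom.congr_fun (MvPolynomial.ringHom_ext (f := D.π.comp q.toRingHom)
      (g := Q.ev.toRingHom.comp (red A ι)) (fun a => ?_) (fun i => ?_)) P
    · simp [q, D.π_algebraMap]
    · simp [q, hx]
  obtain ⟨hq, hK', hrelm, hrel⟩ := Q.gens_facts D x F hx hqF hredF
  let K : Ideal (MvPolynomial ι A) := RingHom.ker q
  have hK : K = Ideal.span (Set.range F) := hK'
  let L : (σ → MvPolynomial ι A) →ₗ[A] MvPolynomial ι A :=
    (Fintype.linearCombination (MvPolynomial ι A) F).restrictScalars A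
  have hLj : ∀ r, L r = j F r := fun r => Fintype.linearCombination_apply (MvPolynomial ι A) F r
  have hredjF : ∀ r, red A ι (j F r) = j Q.f (red A ι ∘ r) := fun r => by
    rw [map_j]
    congr 1
    exact funext hredF
  have hjq : ∀ r, q (j F r) = 0 := fun r => by
    rw [j, map_sum]
    exact Finset.sum_eq_zero fun s _ => by rw [map_mul, hqF, mul_zero]
  have hredF' : ∀ s, red A' ι (F' s) = Q.f s := fun s => by rw [← red_map p, hF', hredF]
  have hpmj : ∀ r, pm (j F' r) = j F (pm ∘ r) := fun r => by
    rw [map_j]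
    congr 1
    exact funext hF'
  have hkill : ∀ κ ∈ 𝔪 A • LinearMap.ker L, ∀ R' : σ → MvPolynomial ι A', pm ∘ R' = κ →
      ∃ G, j F' R' = T * G ∧ Q.ev (red A' ι G) = 0 := by
    have hT' : ∀ R' : σ → MvPolynomial ι A', pm ∘ R' = 0 → ∃ G, j F' R' = T * G ∧ Q.ev (red A' ι G) = 0 := by
      intro R' hR'
      choose e he using fun s => hkpm (R' s) (congrFun hR' s)
      refine ⟨j F' e, by rw [← j_smul]; exact congrArg (j F') (funext he), ?_⟩
      rw [map_j, show red A' ι ∘ F' = Q.f from funext hredF']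
      exact Q.ker_ev.ge (j_mem _ _)
    intro κ hκ
    induction hκ using Submodule.smul_induction_on' with
    | smul a ha w hw =>
      intro R' hR'
      obtain ⟨a', rfl⟩ := hsurj a
      choose w' hw' using fun s => hpm (w s)
      obtain ⟨G₁, hG₁⟩ := hkpm (j F' w') (by rw [hpmj, show pm ∘ w' = w from funext hw']; exact hw)
      have ha' : a' ∈ 𝔪 A' := by
        rw [Art.mem_maximalIdeal_iff] at ha ⊢
        rwa [Art.res_app] at ha
      have h0 : j F' ((C a' : MvPolynomial ι A') • w') = 0 := by
        rw [j_smul, hG₁, ← mul_assoc, ← map_mul, htm a' ha', map_zero, zero_mul]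
      obtain ⟨G, hG, hG'⟩ := hT' (R' - (C a' : MvPolynomial ι A') • w') (funext fun s => by
        have h := congrFun hR' s
        rw [Function.comp_apply, Pi.sub_apply, map_sub, Pi.smul_apply, smul_eq_mul, map_mul, hw', MvPolynomial.map_C]
        rw [Function.comp_apply, Pi.smul_apply, Algebra.smul_def, MvPolynomial.algebraMap_eq] at h
        rw [h]
        exact sub_self _)
      exact ⟨G, by rw [← hG, j_sub, h0, sub_zero], hG'⟩
    | add a _ b _ ha hb =>
      intro R' hR'
      choose a' ha' using fun s => hpm (a s)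
      obtain ⟨G₁, hG₁, hG₁'⟩ := ha a' (funext ha')
      obtain ⟨G₂, hG₂, hG₂'⟩ := hb (R' - a') (funext fun s => by
        rw [Function.comp_apply, Pi.sub_apply, map_sub, ha', show pm (R' s) = a s + b s from congrFun hR' s,
          add_sub_cancel_left])
      exact ⟨G₁ + G₂, by rw [mul_add, ← hG₁, ← hG₂, j_sub, add_sub_cancel],
        by rw [map_add, map_add, hG₁', hG₂', add_zero]⟩
  let Wit : (σ → MvPolynomial ι k) → B₀ → Prop := fun r e =>
    ∃ R' G, red A' ι ∘ R' = r ∧ j F' R' = T * G ∧ Q.ev (red A' ι G) = e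
  have hWex : ∀ r, j Q.f r = 0 → ∃ e, Wit r e := fun r hr => by
    obtain ⟨R, hR, rfl⟩ := hrel r hr
    choose R' hR' using fun s => hpm (R s)
    obtain ⟨G, hG⟩ := hkpm (j F' R') (by rw [hpmj, show pm ∘ R' = R from funext hR', hR])
    exact ⟨_, R', G, funext fun s => by rw [Function.comp_apply, ← red_map p, hR']; rfl, hG, rfl⟩
  have hWuniq : ∀ r e e', Wit r e → Wit r e' → e = e' := by
    rintro r _ _ ⟨R₁, G₁, h₁, hG₁, rfl⟩ ⟨R₂, G₂, h₂, hG₂, rfl⟩
    have hj : j F (pm ∘ (R₁ - R₂)) = 0 := by
      rw [← hpmj, j_sub, map_sub, hG₁, hG₂, map_mul, map_mul, hpmT, zero_mul, zero_mul, sub_zero]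
    have hr : ∀ s, red A ι ((pm ∘ (R₁ - R₂)) s) = 0 := fun s => by
      rw [Function.comp_apply, red_map p, Pi.sub_apply, map_sub,
        show red A' ι (R₁ s) = r s from congrFun h₁ s, show red A' ι (R₂ s) = r s from congrFun h₂ s, sub_self]
    obtain ⟨G, hG, hG'⟩ := hkill _ (hrelm _ hj hr) _ rfl
    rw [j_sub, hG₁, hG₂, ← mul_sub, ← hTeq, map_sub] at hG
    rw [← sub_eq_zero, ← map_sub, hG, hG']
  let o : (σ → MvPolynomial ι k) → B₀ := fun r => if h : ∃ e, Wit r e then h.choose else 0
  have ho : ∀ r e, Wit r e → o r = e := fun r e h => by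
    rw [show o r = Exists.choose ⟨e, h⟩ from dif_pos ⟨e, h⟩]
    exact hWuniq r _ _ (Exists.choose_spec (⟨e, h⟩ : ∃ e, Wit r e)) h
  have ho_add : ∀ r r', j Q.f r = 0 → j Q.f r' = 0 → o (r + r') = o r + o r' := by
    intro r r' hr hr'
    obtain ⟨e, R₁, G₁, h₁, hG₁, he⟩ := hWex r hr
    obtain ⟨e', R₂, G₂, h₂, hG₂, he'⟩ := hWex r' hr'
    rw [ho r e ⟨R₁, G₁, h₁, hG₁, he⟩, ho r' e' ⟨R₂, G₂, h₂, hG₂, he'⟩]
    refine ho _ _ ⟨R₁ + R₂, G₁ + G₂, funext fun s => ?_, by rw [j_add, hG₁, hG₂, mul_add], by
      rw [map_add, map_add, he, he']⟩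
    rw [← h₁, ← h₂]
    exact map_add _ _ _
  have ho_smul : ∀ a r, j Q.f r = 0 → o (a • r) = Q.ev a * o r := by
    intro a r hr
    obtain ⟨e, R₁, G₁, h₁, hG₁, he⟩ := hWex r hr
    obtain ⟨a', rfl⟩ := red_surjective A' a
    rw [ho r e ⟨R₁, G₁, h₁, hG₁, he⟩]
    refine ho _ _ ⟨a' • R₁, a' * G₁, funext fun s => ?_, by rw [j_smul, hG₁, mul_left_comm], by
      rw [map_mul, map_mul, he]⟩
    rw [← h₁]
    exact map_mul _ _ _
  have ho_triv : ∀ a b, o (j Q.f a • b - j Q.f b • a) = 0 := by
    intro a b
    choose a' ha' using fun s => red_surjective A' (a s)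
    choose b' hb' using fun s => red_surjective A' (b s)
    refine ho _ _ ⟨j F' a' • b' - j F' b' • a', 0, funext fun s => ?_, ?_, by rw [map_zero, map_zero]⟩
    · simp only [Function.comp_apply, Pi.sub_apply, Pi.smul_apply, smul_eq_mul, map_sub, map_mul, ha', hb', map_j,
        show red A' ι ∘ F' = Q.f from funext hredF', show red A' ι ∘ a' = a from funext ha',
        show red A' ι ∘ b' = b from funext hb']
    · rw [j_sub, j_smul, j_smul, mul_zero, mul_comm, sub_self]
  refine ⟨o, ho_add, ho_smul, ho_triv, fun R' G h => ho _ _ ⟨R', G, rfl, h, rfl⟩, ?_⟩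
  rintro ⟨c, hc⟩
  -- the corrected equations
  choose c₀ hc₀ using fun s => Q.ev_surjective (c s)
  choose Cl hCl using fun s => red_surjective A' (c₀ s)
  let F'' : σ → MvPolynomial ι A' := fun s => F' s - T * Cl s
  have hredF'' : red A' ι ∘ F'' = Q.f := funext fun s => by
    rw [Function.comp_apply, map_sub, map_mul, hredT, zero_mul, sub_zero, hredF']
  have hpmF'' : pm ∘ F'' = F := funext fun s => by
    rw [Function.comp_apply, map_sub, map_mul, hpmT, zero_mul, sub_zero, hF']
  have hexact : ∀ r, j Q.f r = 0 → ∃ R, j F'' R = 0 ∧ red A' ι ∘ R = r := fun r hr => by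
    obtain ⟨e, R', G, h1, h2, h3⟩ := hWex r hr
    have hh : Q.ev (red A' ι (G - j Cl R')) = 0 := by
      rw [map_sub, map_sub, h3, ← ho r e ⟨R', G, h1, h2, h3⟩, hc r hr, map_j, sub_eq_zero, j, map_sum]
      exact Finset.sum_congr rfl fun s _ => by rw [map_mul, Function.comp_apply, Function.comp_apply, hCl, hc₀,
        show red A' ι (R' s) = r s from congrFun h1 s]
    obtain ⟨w, hw⟩ := exists_j (Q.ker_ev.le hh)
    choose w' hw' using fun s => red_surjective A' (w s)
    refine ⟨R' - T • w', ?_, funext fun s => ?_⟩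
    · have h4 : red A' ι (G - j Cl R') = red A' ι (j F'' w') := by
        rw [map_j (red A' ι) F'', hredF'', show red A' ι ∘ w' = w from funext hw', hw]
      rw [j_sub, j_smul, ← (hTeq _ _).1 h4, sub_eq_zero]
      refine (j_sub_mul F' Cl T R').trans ?_
      rw [h2, mul_sub]
    · rw [Function.comp_apply, Pi.sub_apply, Pi.smul_apply, smul_eq_mul, map_sub, map_mul, hredT, zero_mul, sub_zero]
      exact congrFun h1 s
  have hLift : ∀ κ, j F κ = 0 → ∃ R, j F'' R = 0 ∧ pm ∘ R = κ := by
    let N' : Submodule A (σ → MvPolynomial ι A) :=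
      { carrier := {κ | ∃ R, j F'' R = 0 ∧ pm ∘ R = κ}
        zero_mem' := ⟨0, by simp [j], funext fun _ => map_zero _⟩
        add_mem' := fun {a b} ⟨R, hR, ha⟩ ⟨R', hR', hb⟩ =>
          ⟨R + R', by rw [j_add, hR, hR', add_zero], by rw [← ha, ← hb]; exact funext fun _ => map_add _ _ _⟩
        smul_mem' := fun a κ ⟨R, hR, hκ⟩ => by
          obtain ⟨a', rfl⟩ := hsurj a
          refine ⟨(C a' : MvPolynomial ι A') • R, by rw [j_smul, hR, mul_zero], funext fun s => ?_⟩
          rw [← hκ, Function.comp_apply, Pi.smul_apply, smul_eq_mul, map_mul, MvPolynomial.map_C, Pi.smul_apply,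
            Algebra.smul_def]
          rfl }
    have hle : LinearMap.ker L ≤ N' := Groth.FlatMor2.le_of_le_sup_smul_of_isNilpotent (isNilpotent_maximalIdeal A)
      fun κ (hκ : j F κ = 0) => by
        obtain ⟨R, hR, hRr⟩ := hexact (red A ι ∘ κ) (by rw [← hredjF, hκ, map_zero])
        refine Submodule.mem_sup.2 ⟨pm ∘ R, ⟨R, hR, rfl⟩, κ - pm ∘ R, hrelm _ ?_ (fun s => ?_), add_sub_cancel _ _⟩
        · rw [j_sub, hκ, ← hpmF'', ← map_j, hR, map_zero, sub_zero]
        · rw [Pi.sub_apply, map_sub, Function.comp_apply, red_map p, show red A' ι (R s) = red A ι (κ s) from congrFun hRr s,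
            sub_self]
    exact fun κ hκ => hle hκ
  -- the lifted deformation
  let J : Ideal (MvPolynomial ι A') := Ideal.span (Set.range F'')
  let π' : MvPolynomial ι A' ⧸ J →+* B₀ := Ideal.Quotient.lift J (Q.ev.toRingHom.comp (red A' ι)) fun z hz => by
    obtain ⟨r, rfl⟩ := exists_j hz
    rw [RingHom.comp_apply, map_j, hredF'']
    exact Q.ker_ev.ge (j_mem _ _)
  let φ : MvPolynomial ι A' ⧸ J →+* D.carrier := Ideal.Quotient.lift J (q.toRingHom.comp pm) fun z hz => by
    obtain ⟨r, rfl⟩ := exists_j hz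
    rw [RingHom.comp_apply, map_j pm, hpmF'']
    exact hjq _
  have hφalg : ∀ a, φ (algebraMap A' _ a) = algebraMap A D.carrier (p a) := fun a => by
    change q (pm (C a)) = _
    rw [MvPolynomial.map_C]
    exact AlgHom.commutes q (p a)
  have hkerφ : ∀ z, φ z = 0 → ∃ y, z = t • y := fun z hz => by
    obtain ⟨P, rfl⟩ := Ideal.Quotient.mk_surjective z
    obtain ⟨r, hr⟩ := exists_j (hK.le (show pm P ∈ K from hz))
    choose r' hr' using fun s => hpm (r s)
    obtain ⟨y, hy⟩ := hkpm (P - j F'' r') (by
      rw [map_sub, map_j pm, hpmF'', show pm ∘ r' = r from funext hr', hr, sub_self])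
    refine ⟨Ideal.Quotient.mk J y, ?_⟩
    have := congrArg (Ideal.Quotient.mk J) hy
    rw [map_sub, Ideal.Quotient.eq_zero_iff_mem.2 (j_mem F'' r'), sub_zero, map_mul] at this
    rw [this]
    exact (Algebra.smul_def t (Ideal.Quotient.mk J y)).symm
  have hsmul0 : ∀ P, t • Ideal.Quotient.mk J P = 0 → red A' ι P ∈ Ideal.span (Set.range Q.f) := fun P hP => by
    have h : T * P ∈ J := by
      rw [← Ideal.Quotient.eq_zero_iff_mem, map_mul]
      exact (Algebra.smul_def t (Ideal.Quotient.mk J P)).symm.trans hP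
    obtain ⟨b, hb⟩ := exists_j h
    obtain ⟨R, hR, hRb⟩ := hLift (pm ∘ b) (by rw [← hpmF'', ← map_j, hb, map_mul, hpmT, zero_mul])
    choose e he using fun s => hkpm (b s - R s) (by
      rw [map_sub, show pm (R s) = pm (b s) from congrFun hRb s, sub_self])
    have h' : T * P = T * j F'' e := by
      rw [← j_smul, show T • e = b - R from funext fun s => (he s).symm, j_sub, hR, sub_zero, hb]
    rw [(hTeq _ _).2 h', map_j, hredF'']
    exact j_mem _ _
  let D' : DefAlg B₀ A' :=
    { carrier := MvPolynomial ι A' ⧸ J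
      flat := by
        letI := p.toAlgHom.toRingHom.toAlgebra
        letI : Algebra A' D.carrier := ((algebraMap A D.carrier).comp p.toAlgHom.toRingHom).toAlgebra
        haveI : IsScalarTower A' A D.carrier := IsScalarTower.of_algebraMap_eq fun _ => rfl
        let φl : (MvPolynomial ι A' ⧸ J) →ₗ[A'] D.carrier :=
          { toFun := φ
            map_add' := map_add φ
            map_smul' := fun a z => by
              refine (congrArg φ (Algebra.smul_def a z)).trans ?_
              rw [map_mul, hφalg]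
              exact (Algebra.smul_def a (φ z)).symm }
        let Φ := LinearMap.liftBaseChange A φl
        have hdec : ∀ z : A ⊗[A'] (MvPolynomial ι A' ⧸ J), ∃ y, z = (1 : A) ⊗ₜ y := by
          intro z
          induction z using TensorProduct.induction_on with
          | zero => exact ⟨0, (TensorProduct.tmul_zero _ _).symm⟩
          | add a b ha hb =>
            obtain ⟨y, rfl⟩ := ha
            obtain ⟨y', rfl⟩ := hb
            exact ⟨y + y', (TensorProduct.tmul_add _ _ _).symm⟩
          | tmul a y =>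
            obtain ⟨a', rfl⟩ := hsurj a
            refine ⟨a' • y, ?_⟩
            rw [← TensorProduct.smul_tmul, Algebra.smul_def, mul_one]
            rfl
        have hΦ : Function.Bijective Φ := by
          refine ⟨(injective_iff_map_eq_zero _).2 fun z hz => ?_, fun d => ?_⟩
          · obtain ⟨y, rfl⟩ := hdec z
            rw [LinearMap.liftBaseChange_tmul, one_smul] at hz
            obtain ⟨w, rfl⟩ := hkerφ y hz
            rw [← TensorProduct.smul_tmul, Algebra.smul_def, mul_one]
            exact (congrArg (fun a : A => a ⊗ₜ[A'] w) hpt).trans (TensorProduct.zero_tmul _ _)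
          · obtain ⟨P, rfl⟩ := hq d
            obtain ⟨P', rfl⟩ := hpm P
            exact ⟨(1 : A) ⊗ₜ Ideal.Quotient.mk J P', (LinearMap.liftBaseChange_tmul _ _ _ _).trans (one_smul _ _)⟩
        haveI : Module.Flat A (A ⊗[A'] (MvPolynomial ι A' ⧸ J)) :=
          Module.Flat.of_linearEquiv (LinearEquiv.ofBijective Φ hΦ)
        refine Groth.FlatMor2.flat_of_nilpotent_ker (S := A) hsurj ?_ ?_
        · obtain ⟨n, hn⟩ := isNilpotent_maximalIdeal A'
          refine ⟨n, ?_⟩
          rw [Ideal.zero_eq_bot, eq_bot_iff, ← Ideal.zero_eq_bot, ← hn]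
          refine Ideal.pow_right_mono (fun a ha => ?_) n
          rw [Art.mem_maximalIdeal_iff, ← Art.res_app p a, show p a = 0 from ha, map_zero]
        · rw [injective_iff_map_eq_zero]
          intro z hz
          let tt : RingHom.ker (algebraMap A' A) := ⟨t, htk⟩
          obtain ⟨y, rfl⟩ : ∃ y, z = tt ⊗ₜ y := by
            clear hz
            induction z using TensorProduct.induction_on with
            | zero => exact ⟨0, (TensorProduct.tmul_zero _ _).symm⟩
            | add a b ha hb =>
              obtain ⟨y, rfl⟩ := ha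
              obtain ⟨y', rfl⟩ := hb
              exact ⟨y + y', (TensorProduct.tmul_add _ _ _).symm⟩
            | tmul a y =>
              obtain ⟨a, ha⟩ := a
              obtain ⟨r, rfl⟩ := Ideal.mem_span_singleton'.1 (ht.le ha)
              exact ⟨r • y, by rw [← TensorProduct.smul_tmul]; exact congrArg (· ⊗ₜ[A'] y) (Subtype.ext rfl)⟩
          have h0 : t • y = 0 := by
            have := congrArg (TensorProduct.lid A' _) hz
            rwa [LinearMap.rTensor_tmul, TensorProduct.lid_tmul, map_zero] at this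
          obtain ⟨P, rfl⟩ := Ideal.Quotient.mk_surjective y
          obtain ⟨r, hr⟩ := exists_j (hsmul0 P h0)
          choose r' hr' using fun s => red_surjective A' (r s)
          have hmem : P - j F'' r' ∈ 𝔪 A' • (⊤ : Submodule A' (MvPolynomial ι A')) := by
            rw [mem_smul_top_iff_red, map_sub, map_j, hredF'', show red A' ι ∘ r' = r from funext hr', hr, sub_self]
          have hmem' := Submodule.mem_map_of_mem (f := (Ideal.Quotient.mkₐ A' J).toLinearMap) hmem
          rw [Submodule.map_smul'', AlgHom.toLinearMap_apply, Ideal.Quotient.mkₐ_eq_mk, map_sub,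
            Ideal.Quotient.eq_zero_iff_mem.2 (j_mem F'' r'), sub_zero] at hmem'
          generalize Ideal.Quotient.mk J P = y at hmem'
          induction hmem' using Submodule.smul_induction_on' with
          | smul a ha w _ =>
            rw [← TensorProduct.smul_tmul, show a • tt = 0 from Subtype.ext (htm a ha), TensorProduct.zero_tmul]
          | add a _ b _ ha hb => rw [TensorProduct.tmul_add, ha, hb, add_zero]
      π := π'
      π_surjective := Ideal.Quotient.lift_surjective_of_surjective _ _ (Q.ev_surjective.comp (red_surjective A'))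
      ker_π := by
        refine le_antisymm (fun z hz => ?_) (Ideal.map_le_iff_le_comap.2 fun a ha => ?_)
        · obtain ⟨P, rfl⟩ := Ideal.Quotient.mk_surjective z
          obtain ⟨r, hr⟩ := exists_j (Q.ker_ev.le (show Q.ev (red A' ι P) = 0 from hz))
          choose r' hr' using fun s => red_surjective A' (r s)
          have h : P - j F'' r' ∈ (𝔪 A').map MvPolynomial.C := by
            rw [← ker_red, RingHom.mem_ker, map_sub, map_j, hredF'', show red A' ι ∘ r' = r from funext hr', hr, sub_self]
          have h' := Ideal.mem_map_of_mem (Ideal.Quotient.mk J) h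
          rw [map_sub, Ideal.Quotient.eq_zero_iff_mem.2 (j_mem F'' r'), sub_zero, Ideal.map_map] at h'
          exact h'
        · change Q.ev (red A' ι (C a)) = 0
          rw [MvPolynomial.map_C, show A'.res.toRingHom a = 0 from (A'.mem_maximalIdeal_iff a).1 ha, map_zero, map_zero]
      π_algebraMap := fun a => by
        change Q.ev (red A' ι (C a)) = _
        rw [MvPolynomial.map_C]
        exact Q.ev.commutes _ }
  refine ⟨D', ⟨⟨φ, hφalg, fun z => ?_⟩⟩⟩
  obtain ⟨P, rfl⟩ := Ideal.Quotient.mk_surjective z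
  change D.π (q (pm P)) = Q.ev (red A' ι P)
  rw [hπq, red_map]

/-- Lifting along a small extension under `T² = 0`. -/
theorem exists_lift (hQ : Q.Unobs) (p : A' ⟶ A) (hp : Art.IsSmallExt p) (D : DefAlg B₀ A) :
    ∃ D' : DefAlg B₀ A', Nonempty (DefAlg.Map p D' D) := by
  obtain ⟨t, ht⟩ := hp.2.2.1.principal
  obtain ⟨x, F, hx, hqF, hredF⟩ := Q.exists_gens D
  choose F' hF' using fun s => MvPolynomial.map_surjective p.toAlgHom.toRingHom hp.1 (F s)
  obtain ⟨o, h1, h2, h3, -, hlift⟩ := Q.exists_obstruction p hp ht D x F hx hqF hredF F' hF'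
  exact hlift (hQ o h1 h2 h3)

end Pres

end Groth.ArtfunDeform
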