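import Groth.Agent.ArtfunDeform.AlgDef.Rigid
import Groth.Agent.ArtfunDeform.Prorep

/-!
Deformations of the node `xy = 0`: the deformations `xy = a`, and the failure of prorepresentability.
-/

set_option linter.style.haveILetI false
set_option linter.style.longLine false
set_option linter.unusedSectionVars false

noncomputable section

universe u v

open CategoryTheory MvPolynomial AlgebraicGeometry

namespace Groth.ArtfunDeform

open ArtFun

local notation "𝔪" => IsLocalRing.maximalIdeal

section Lifts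

variable {Λ k : Type u} [CommRing Λ] [Field k] [Algebra Λ k] [Module.Finite Λ k] {F : Art Λ k ⥤ Type v}

/-- If `F` is left exact and `F(k[ε])` has two elements, a lift along a small extension is never unique. -/
theorem exists_ne_lift (hF : IsLeftExact F) (h0 : Subsingleton (F.obj (Art.base Λ k))) {A B : Art Λ k}
    {p : B ⟶ A} (hp : Art.IsSmallExt p) (y : F.obj B) {τ₁ τ₂ : F.obj (Art.dual Λ k)} (hτ : τ₁ ≠ τ₂) :
    ∃ y', F.map p y' = F.map p y ∧ y' ≠ y := by
  obtain ⟨P, q₁, q₂, hP⟩ := exists_isFibreProd p p hp.1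
  obtain ⟨t, ht⟩ := hp.2.2.1.principal
  change RingHom.ker p.toAlgHom = Ideal.span {t} at ht
  obtain ⟨g, hg⟩ := exists_isDiff hp ht hP
  have hfp := isFibreProd_diff hp ht hP hg
  obtain ⟨z₁, h11, h12⟩ := (cmp_surjective_iff hfp).1 (hF _ _ _ _ hfp).2 y τ₁ (Subsingleton.elim _ _)
  obtain ⟨z₂, h21, h22⟩ := (cmp_surjective_iff hfp).1 (hF _ _ _ _ hfp).2 y τ₂ (Subsingleton.elim _ _)
  have hw : ∀ z, F.map p (F.map q₂ z) = F.map p (F.map q₁ z) := fun z => by
    rw [map_map, map_map, hP.w]
  by_contra hcon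
  push Not at hcon
  refine hτ ?_
  have e1 : F.map q₂ z₁ = y := hcon _ (by rw [hw, h11])
  have e2 : F.map q₂ z₂ = y := hcon _ (by rw [hw, h21])
  have e : z₁ = z₂ := (cmp_injective_iff hP).1 (hF _ _ _ _ hP).1 _ _ (by rw [h11, h21]) (by rw [e1, e2])
  rw [← h12, ← h22, e]

end Lifts

variable {k : Type u} [Field k]

variable (k) in
/-- The coordinate ring of the node. -/
abbrev NodeRing : Type u := MvPolynomial (Fin 2) k ⧸ Ideal.span {(X 0 * X 1 : MvPolynomial (Fin 2) k)}

namespace Node

variable (k) in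
/-- The first coordinate. -/
def x₀ : NodeRing k := Ideal.Quotient.mk _ (X 0)

variable (k) in
/-- The second coordinate. -/
def y₀ : NodeRing k := Ideal.Quotient.mk _ (X 1)

lemma x₀_mul_y₀ : x₀ k * y₀ k = 0 := by
  rw [x₀, y₀, ← map_mul]
  exact Ideal.Quotient.eq_zero_iff_mem.2 (Ideal.subset_span rfl)

variable {R : Type u} [CommRing R] (a : R)

/-- The ring `R[X, Y]/(XY - a)`. -/
abbrev Carrier : Type u := MvPolynomial (Fin 2) R ⧸ Ideal.span {(X 0 * X 1 - C a : MvPolynomial (Fin 2) R)}

/-- `X`. -/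
def x : Carrier a := Ideal.Quotient.mk _ (X 0)

/-- `Y`. -/
def y : Carrier a := Ideal.Quotient.mk _ (X 1)

lemma algebraMap_apply (r : R) : algebraMap R (Carrier a) r = Ideal.Quotient.mk _ (C r) := rfl

lemma x_mul_y : x a * y a = algebraMap R (Carrier a) a := by
  rw [algebraMap_apply, x, y, ← map_mul, Ideal.Quotient.mk_eq_mk_iff_sub_mem]
  exact Ideal.subset_span rfl

/-- Universal property. -/
def lift {T : Type u} [CommRing T] (f : R →+* T) (u v : T) (h : u * v = f a) : Carrier a →+* T :=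
  Ideal.Quotient.lift _ (eval₂Hom f ![u, v]) fun z hz => by
    obtain ⟨q, rfl⟩ := Ideal.mem_span_singleton'.1 hz
    simp [h]

/-- The normal form. -/
def normalForm : MvPolynomial (Fin 2) R →ₗ[R] ℤ →₀ R :=
  (basisMonomials (Fin 2) R).constr R fun m =>
    Finsupp.single ((m 0 : ℤ) - m 1) (a ^ min (m 0) (m 1))

lemma normalForm_monomial (m : Fin 2 →₀ ℕ) (c : R) :
    normalForm a (monomial m c) = Finsupp.single ((m 0 : ℤ) - m 1) (c * a ^ min (m 0) (m 1)) := by
  have h : monomial m c = c • basisMonomials (Fin 2) R m := by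
    rw [coe_basisMonomials, smul_monomial, smul_eq_mul, mul_one]
  rw [h, map_smul, normalForm, Module.Basis.constr_basis, Finsupp.smul_single, smul_eq_mul]

lemma normalForm_eq_zero {z : MvPolynomial (Fin 2) R}
    (hz : z ∈ Ideal.span {(X 0 * X 1 - C a : MvPolynomial (Fin 2) R)}) : normalForm a z = 0 := by
  obtain ⟨q, rfl⟩ := Ideal.mem_span_singleton'.1 hz
  clear hz
  induction q using MvPolynomial.induction_on' with
  | add p q hp hq => rw [add_mul, map_add, hp, hq, add_zero]
  | monomial m c =>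
    have h : monomial m c * (X 0 * X 1 - C a) =
        monomial (m + (Finsupp.single 0 1 + Finsupp.single 1 1)) c - monomial m (c * a) := by
      rw [mul_sub, X, X, monomial_mul, monomial_mul, C_apply, monomial_mul, one_mul, mul_one, add_zero]
    rw [h, map_sub, normalForm_monomial, normalForm_monomial, sub_eq_zero]
    have h0 : (m + (Finsupp.single 0 1 + Finsupp.single 1 1) : Fin 2 →₀ ℕ) 0 = m 0 + 1 := by simp
    have h1 : (m + (Finsupp.single 0 1 + Finsupp.single 1 1) : Fin 2 →₀ ℕ) 1 = m 1 + 1 := by simp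
    rw [h0, h1, Nat.succ_min_succ, pow_succ]
    push_cast
    congr 1
    · ring
    · ring

/-- `x ^ n` or `y ^ (-n)`. -/
def basisElt (n : ℤ) : Carrier a := x a ^ n.toNat * y a ^ (-n).toNat

/-- The normal form on the quotient. -/
def normalForm' : Carrier a →ₗ[R] ℤ →₀ R :=
  (((Ideal.span {(X 0 * X 1 - C a : MvPolynomial (Fin 2) R)}).restrictScalars R).liftQ (normalForm a)
    fun _ hz => normalForm_eq_zero a hz) ∘ₗ (Submodule.Quotient.restrictScalarsEquiv R _).symm.toLinearMap

lemma normalForm'_mk (z : MvPolynomial (Fin 2) R) :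
    normalForm' a (Ideal.Quotient.mk _ z) = normalForm a z := rfl

lemma linearCombination_normalForm' (z : Carrier a) :
    Finsupp.linearCombination R (basisElt a) (normalForm' a z) = z := by
  obtain ⟨z, rfl⟩ := Ideal.Quotient.mk_surjective z
  rw [normalForm'_mk]
  induction z using MvPolynomial.induction_on' with
  | add p q hp hq => rw [map_add, map_add, map_add, hp, hq]
  | monomial m c =>
    rw [normalForm_monomial, Finsupp.linearCombination_single]
    refine (Algebra.smul_def (c * a ^ min (m 0) (m 1)) (basisElt a ((m 0 : ℤ) - m 1))).trans ?_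
    rw [basisElt]
    have hm : Ideal.Quotient.mk (Ideal.span {(X 0 * X 1 - C a : MvPolynomial (Fin 2) R)}) (monomial m c) =
        algebraMap R (Carrier a) c * (x a ^ m 0 * y a ^ m 1) := by
      rw [monomial_eq, Finsupp.prod_fintype _ _ (fun _ => pow_zero _), Fin.prod_univ_two, map_mul, map_mul,
        map_pow, map_pow]
      rfl
    rw [hm, map_mul, map_pow, ← x_mul_y, mul_pow, mul_assoc]
    congr 1
    rw [show x a ^ min (m 0) (m 1) * y a ^ min (m 0) (m 1) *
        (x a ^ ((m 0 : ℤ) - m 1).toNat * y a ^ (-((m 0 : ℤ) - m 1)).toNat) =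
        x a ^ (min (m 0) (m 1) + ((m 0 : ℤ) - m 1).toNat) * y a ^ (min (m 0) (m 1) + (-((m 0 : ℤ) - m 1)).toNat) by
      rw [pow_add, pow_add]; ring]
    congr 2 <;> omega

lemma flat : Module.Flat R (Carrier a) :=
  Module.Flat.of_retract (normalForm' a) (Finsupp.linearCombination R (basisElt a))
    (LinearMap.ext fun z => linearCombination_normalForm' a z)

end Node

open Node

/-- The deformation `XY = a` of the node. -/
def nodeDef {A : Art k k} (a : A) (ha : A.res a = 0) : DefAlg (NodeRing k) A where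
  carrier := Node.Carrier a
  flat := Node.flat a
  π := Node.lift a ((algebraMap k (NodeRing k)).comp A.res.toRingHom) (x₀ k) (y₀ k) (by
    rw [x₀_mul_y₀, RingHom.comp_apply]
    exact ((congrArg _ ha).trans (map_zero _)).symm)
  π_surjective := fun b => by
    obtain ⟨P, rfl⟩ := Ideal.Quotient.mk_surjective b
    obtain ⟨P', rfl⟩ := MvPolynomial.map_surjective A.res.toRingHom A.res_surjective P
    refine ⟨Ideal.Quotient.mk _ P', ?_⟩
    rw [Node.lift, Ideal.Quotient.lift_mk]
    refine RingHom.congr_fun (MvPolynomial.ringHom_ext (f := eval₂Hom _ ![x₀ k, y₀ k])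
      (g := (Ideal.Quotient.mk _).comp (MvPolynomial.map A.res.toRingHom)) (fun r => ?_) (fun i => ?_)) P'
    · simp; rfl
    · fin_cases i <;> simp [x₀, y₀]
  ker_π := by
    have hπ : ∀ P, Node.lift a ((algebraMap k (NodeRing k)).comp A.res.toRingHom) (x₀ k) (y₀ k) (by
        rw [x₀_mul_y₀, RingHom.comp_apply]
        exact ((congrArg _ ha).trans (map_zero _)).symm) (Ideal.Quotient.mk _ P) =
        Ideal.Quotient.mk _ (MvPolynomial.map A.res.toRingHom P) := by
      intro P
      rw [Node.lift, Ideal.Quotient.lift_mk]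
      refine RingHom.congr_fun (MvPolynomial.ringHom_ext (f := eval₂Hom _ ![x₀ k, y₀ k])
        (g := (Ideal.Quotient.mk _).comp (MvPolynomial.map A.res.toRingHom)) (fun r => ?_) (fun i => ?_)) P
      · simp; rfl
      · fin_cases i <;> simp [x₀, y₀]
    refine le_antisymm (fun z hz => ?_) (Ideal.map_le_iff_le_comap.2 fun r hr => ?_)
    · obtain ⟨P, rfl⟩ := Ideal.Quotient.mk_surjective z
      rw [RingHom.mem_ker, hπ, Ideal.Quotient.eq_zero_iff_mem, Ideal.mem_span_singleton'] at hz
      obtain ⟨Q, hQ⟩ := hz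
      obtain ⟨Q', rfl⟩ := MvPolynomial.map_surjective A.res.toRingHom A.res_surjective Q
      have h0 : P - Q' * (X 0 * X 1 - C a) ∈ RingHom.ker (MvPolynomial.map A.res.toRingHom) := by
        rw [RingHom.mem_ker, map_sub, map_mul, map_sub, map_mul, map_X, map_X, map_C,
          show A.res.toRingHom a = 0 from ha, C_0, sub_zero, hQ, sub_self]
      rw [MvPolynomial.ker_map, show RingHom.ker A.res.toRingHom = 𝔪 A from ker_res A] at h0
      have h1 := Ideal.mem_map_of_mem (Ideal.Quotient.mk (Ideal.span {(X 0 * X 1 - C a : MvPolynomial (Fin 2) A)})) h0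
      rw [Ideal.map_map, map_sub, map_mul, (Ideal.Quotient.eq_zero_iff_mem (I := Ideal.span {(X 0 * X 1 - C a : MvPolynomial (Fin 2) A)})).2
        (Ideal.mem_span_singleton_self _), mul_zero,
        sub_zero] at h1
      exact h1
    · rw [Ideal.mem_comap, RingHom.mem_ker, Node.algebraMap_apply, hπ, map_C]
      exact (congrArg (fun w => Ideal.Quotient.mk _ (C w)) ((A.mem_maximalIdeal_iff r).1 hr)).trans (by simp)
  π_algebraMap := fun r => by
    rw [Node.algebraMap_apply, Node.lift, Ideal.Quotient.lift_mk, eval₂Hom_C]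
    rfl

variable {A A' : Art k k}

lemma nodeDef_π_x (a : A) (ha : A.res a = 0) : (nodeDef a ha).π (Node.x a) = x₀ k := by
  change eval₂Hom _ _ (X 0) = _
  simp

lemma nodeDef_π_y (a : A) (ha : A.res a = 0) : (nodeDef a ha).π (Node.y a) = y₀ k := by
  change eval₂Hom _ _ (X 1) = _
  simp

/-- Maps out of `XY = a`. -/
def nodeMap (g : A ⟶ A') (a : A) (ha : A.res a = 0) (D : DefAlg (NodeRing k) A') (u v : D.carrier)
    (hu : D.π u = x₀ k) (hv : D.π v = y₀ k) (h : u * v = algebraMap A' D.carrier (g a)) :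
    DefAlg.Map g (nodeDef a ha) D where
  hom := Node.lift a ((algebraMap A' D.carrier).comp g.toAlgHom.toRingHom) u v h
  hom_algebraMap r := by
    change eval₂Hom _ _ (C r) = _
    rw [eval₂Hom_C]
    rfl
  π_hom b := by
    refine RingHom.congr_fun (Ideal.Quotient.ringHom_ext (f := D.π.comp (Node.lift a _ u v h))
      (g := (nodeDef a ha).π) (MvPolynomial.ringHom_ext (fun r => ?_) (fun i => ?_))) b
    · simp only [RingHom.comp_apply, Node.lift, Ideal.Quotient.lift_mk, eval₂Hom_C]
      rw [D.π_algebraMap]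
      refine Eq.trans ?_ ((nodeDef a ha).π_algebraMap r).symm
      exact congrArg (algebraMap k _) (Art.res_app g r)
    · fin_cases i
      · simp only [RingHom.comp_apply, Node.lift, Ideal.Quotient.lift_mk]
        exact (by simp [hu] : _ = x₀ k).trans (nodeDef_π_x a ha).symm
      · simp only [RingHom.comp_apply, Node.lift, Ideal.Quotient.lift_mk]
        exact (by simp [hv] : _ = y₀ k).trans (nodeDef_π_y a ha).symm

lemma nodeDef_map_cl (g : A ⟶ A') (a : A) (ha : A.res a = 0) (ha' : A'.res (g a) = 0) :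
    (defFunctor (Spec (CommRingCat.of (NodeRing k))) (strMap k (NodeRing k))).map g (nodeDef a ha).cl =
      (nodeDef (g a) ha').cl :=
  DefAlg.map_cl (nodeMap g a ha _ (Node.x _) (Node.y _) (nodeDef_π_x _ _) (nodeDef_π_y _ _) (Node.x_mul_y _))

lemma exists_decomp (b : NodeRing k) :
    ∃ (c : k) (g h : NodeRing k), b = algebraMap k _ c + x₀ k * g + y₀ k * h := by
  obtain ⟨P, rfl⟩ := Ideal.Quotient.mk_surjective b
  induction P using MvPolynomial.induction_on with
  | C c => exact ⟨c, 0, 0, by rw [mul_zero, mul_zero, add_zero, add_zero]; rfl⟩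
  | add p q hp hq =>
    obtain ⟨c, g, h, e⟩ := hp
    obtain ⟨c', g', h', e'⟩ := hq
    exact ⟨c + c', g + g', h + h', by rw [map_add, e, e', map_add]; ring⟩
  | mul_X p i _ =>
    fin_cases i
    · exact ⟨0, Ideal.Quotient.mk _ p, 0, by rw [map_mul, map_zero, x₀]; simp [mul_comm]⟩
    · exact ⟨0, 0, Ideal.Quotient.mk _ p, by rw [map_mul, map_zero, y₀]; simp [mul_comm]⟩

/-- Along a small extension with kernel generated by `a * w`, `XY = a` is the only lift. -/
theorem node_lift_unique {p : A' ⟶ A} (hp : Function.Surjective p) {a w : A'} (ha : A'.res a = 0)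
    (hw : A'.res w = 0) (hker : RingHom.ker p.toAlgHom = Ideal.span {a * w})
    (hm : ∀ m ∈ 𝔪 A', m * (a * w) = 0) (ha' : A.res (p a) = 0) (D : DefAlg (NodeRing k) A')
    (φ : DefAlg.Map p D (nodeDef (p a) ha')) : (nodeDef a ha).cl = D.cl := by
  refine DefAlg.cl_eq_iff.2 ?_
  obtain ⟨U, hU⟩ := φ.surjective hp (Node.x (p a))
  obtain ⟨V, hV⟩ := φ.surjective hp (Node.y (p a))
  have hπU : D.π U = x₀ k := by rw [← φ.π_hom, hU, nodeDef_π_x]
  have hπV : D.π V = y₀ k := by rw [← φ.π_hom, hV, nodeDef_π_y]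
  have h0 : φ.hom (U * V - algebraMap A' D.carrier a) = 0 := by
    rw [map_sub, map_mul, hU, hV, φ.hom_algebraMap]
    exact sub_eq_zero.2 (Node.x_mul_y (p a))
  have h1 := φ.mem_ker hp h0
  rw [hker, Submodule.ideal_span_singleton_smul, Submodule.mem_smul_pointwise_iff_exists] at h1
  obtain ⟨d, -, hd⟩ := h1
  obtain ⟨c, g, h, e⟩ := exists_decomp (D.π d)
  obtain ⟨c', rfl⟩ := A'.res_surjective c
  obtain ⟨G, rfl⟩ := D.π_surjective g
  obtain ⟨H, rfl⟩ := D.π_surjective h
  set t := a * w with ht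
  have hd' : t • d = t • (algebraMap A' D.carrier c' + U * G + V * H) := by
    refine D.smul_eq_of_π_eq hm ?_
    rw [e, map_add, map_add, map_mul, map_mul, D.π_algebraMap, hπU, hπV]
  have hres : A'.res t = 0 := by rw [ht, map_mul, ha, zero_mul]
  have htt : t * t = 0 := hm t ((A'.mem_maximalIdeal_iff t).2 hres)
  let τ : D.carrier := algebraMap A' D.carrier t
  have hττ : τ * τ = 0 := by rw [← map_mul, htt, map_zero]
  have key : (U - τ * H) * (V - τ * G) = algebraMap A' D.carrier (a * (1 + w * c')) := by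
    rw [Algebra.smul_def, Algebra.smul_def] at hd'
    rw [Algebra.smul_def, hd'] at hd
    have : (U - τ * H) * (V - τ * G) = algebraMap A' D.carrier a + τ * algebraMap A' D.carrier c' + τ * τ * (H * G) := by
      linear_combination -hd
    rw [this, hττ, zero_mul, add_zero, ← map_mul, ← map_add, ht]
    congr 1
    ring
  have hu : IsUnit (1 + w * c') := (isUnit_iff _).2 (by rw [map_add, map_one, map_mul, hw, zero_mul, add_zero]; exact one_ne_zero)
  obtain ⟨v, hv⟩ := hu.exists_left_inv
  have hresv : A'.res v = 1 := by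
    have := congrArg A'.res hv
    rwa [map_mul, map_add, map_one, map_mul, hw, zero_mul, add_zero, mul_one] at this
  refine ⟨nodeMap (𝟙 A') a ha D (algebraMap A' D.carrier v * (U - τ * H)) (V - τ * G) ?_ ?_ ?_⟩
  · rw [map_mul, map_sub, map_mul, D.π_algebraMap, D.π_algebraMap, hresv, hres, map_one, map_zero, zero_mul,
      sub_zero, one_mul, hπU]
  · rw [map_sub, map_mul, D.π_algebraMap, hres, map_zero, zero_mul, sub_zero, hπV]
  · rw [mul_assoc, key, ← map_mul]
    exact congrArg (algebraMap A' D.carrier) (show v * (a * (1 + w * c')) = a by linear_combination a * hv)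

/-- Evaluation at the origin. -/
def evalOrigin : NodeRing k →+* k :=
  Ideal.Quotient.lift _ (eval₂Hom (RingHom.id k) 0) fun z hz => by
    obtain ⟨q, rfl⟩ := Ideal.mem_span_singleton'.1 hz
    simp

/-- `XY = ε` is not `XY = 0`. -/
theorem node_eps_ne :
    (nodeDef (A := Art.dual k k) DualNumber.eps rfl).cl ≠ (nodeDef (A := Art.dual k k) 0 (map_zero _)).cl := by
  intro hcl
  obtain ⟨φ⟩ := DefAlg.cl_eq_iff.1 hcl
  set D := nodeDef (A := Art.dual k k) 0 (map_zero _)
  let ε : Art.dual k k := DualNumber.eps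
  have hm₀ : ∀ m : DualNumber k, TrivSqZeroExt.fst m = 0 → m = TrivSqZeroExt.inl (TrivSqZeroExt.snd m) * DualNumber.eps :=
    fun m h => TrivSqZeroExt.ext (by rw [TrivSqZeroExt.fst_mul, TrivSqZeroExt.fst_inl, DualNumber.fst_eps, mul_zero, h])
      (by rw [TrivSqZeroExt.snd_mul, TrivSqZeroExt.fst_inl, TrivSqZeroExt.snd_inl, DualNumber.snd_eps, smul_zero, add_zero, smul_eq_mul, mul_one])
  have hεm₀ : ∀ m : DualNumber k, TrivSqZeroExt.fst m = 0 → m * DualNumber.eps = 0 := fun m h => by
    rw [hm₀ m h, mul_assoc, DualNumber.eps_mul_eps, mul_zero]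
  have hεm : ∀ m ∈ 𝔪 (Art.dual k k), m * ε = 0 := fun m h =>
    hεm₀ m (((Art.dual k k).mem_maximalIdeal_iff m).1 h)
  have hε0 : ε ≠ 0 := fun h => one_ne_zero (congrArg (fun m : DualNumber k => TrivSqZeroExt.snd m) h)
  let τ : D.carrier := algebraMap (Art.dual k k) D.carrier ε
  have hττ : τ * τ = 0 := by
    rw [← map_mul]
    exact (congrArg _ DualNumber.eps_mul_eps).trans (map_zero _)
  have hdec : ∀ z z' : D.carrier, D.π z = D.π z' → ∃ q, z = z' + τ * q := fun z z' h => by
    have h1 : z - z' ∈ 𝔪 (Art.dual k k) • (⊤ : Submodule (Art.dual k k) D.carrier) := by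
      rw [← DefAlg.π_eq_zero_iff, map_sub, h, sub_self]
    have hle : 𝔪 (Art.dual k k) ≤ Ideal.span {ε} := fun m h =>
      Ideal.mem_span_singleton'.2 ⟨_, (hm₀ m (((Art.dual k k).mem_maximalIdeal_iff m).1 h)).symm⟩
    have h2 := Submodule.smul_mono_left hle h1
    rw [Submodule.ideal_span_singleton_smul, Submodule.mem_smul_pointwise_iff_exists] at h2
    obtain ⟨q, -, hq⟩ := h2
    rw [Algebra.smul_def] at hq
    refine ⟨q, ?_⟩
    rw [← sub_eq_iff_eq_add']
    exact hq.symm
  obtain ⟨q₁, hq₁⟩ := hdec (φ.hom (Node.x _)) (Node.x (0 : Art.dual k k)) (by rw [φ.π_hom, nodeDef_π_x]; exact (nodeDef_π_x _ _).symm)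
  obtain ⟨q₂, hq₂⟩ := hdec (φ.hom (Node.y _)) (Node.y (0 : Art.dual k k)) (by rw [φ.π_hom, nodeDef_π_y]; exact (nodeDef_π_y _ _).symm)
  have hprod : φ.hom (Node.x _) * φ.hom (Node.y _) = τ := by
    rw [← map_mul]
    exact (congrArg φ.hom (Node.x_mul_y _)).trans (φ.hom_algebraMap _)
  let X' : D.carrier := Node.x (0 : Art.dual k k)
  let Y' : D.carrier := Node.y (0 : Art.dual k k)
  have h0 : X' * Y' = 0 := (Node.x_mul_y _).trans (map_zero _)
  have h1 : τ * (X' * q₂ + Y' * q₁ - 1) = 0 := by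
    linear_combination hprod + (-(q₁ * q₂)) * hττ + (-1 : D.carrier) * h0 +
      (-(φ.hom (Node.y _))) * hq₁ + (-(X' + τ * q₁)) * hq₂
  have h2 := D.π_eq_zero_of_smul_eq_zero hε0 hεm (d := (X' * q₂ + Y' * q₁ - 1))
    ((Algebra.smul_def _ _).trans h1)
  rw [map_sub, map_one, map_add, map_mul, map_mul, show D.π X' = x₀ k from nodeDef_π_x _ _,
    show D.π Y' = y₀ k from nodeDef_π_y _ _] at h2
  have h3 := congrArg (evalOrigin (k := k)) h2
  simp [evalOrigin, x₀, y₀] at h3

section Cube

variable (k)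

/-- `k[t]/t³`. -/
abbrev CubeRing : Type u := Polynomial k ⧸ Ideal.span {(Polynomial.X ^ 3 : Polynomial k)}

/-- Evaluation at `0`. -/
def cubeRes : CubeRing k →ₐ[k] k :=
  Ideal.Quotient.liftₐ _ (Polynomial.aeval (0 : k)) fun z hz => by
    obtain ⟨q, rfl⟩ := Ideal.mem_span_singleton'.1 hz
    simp

/-- `t`. -/
def cubeT : CubeRing k := Ideal.Quotient.mk _ Polynomial.X

lemma cubeRes_t : cubeRes k (cubeT k) = 0 := Polynomial.aeval_X _

lemma cubeT_pow : cubeT k ^ 3 = 0 := by
  rw [cubeT, ← map_pow]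
  exact Ideal.Quotient.eq_zero_iff_mem.2 (Ideal.subset_span rfl)

lemma exists_cube_coeff (z : CubeRing k) :
    ∃ (c₀ c₁ : k) (r : CubeRing k), z = algebraMap k _ c₀ + cubeT k * (algebraMap k _ c₁ + cubeT k * r) := by
  obtain ⟨f, rfl⟩ := Ideal.Quotient.mk_surjective z
  refine ⟨f.coeff 0, f.divX.coeff 0, Ideal.Quotient.mk _ f.divX.divX, ?_⟩
  conv_lhs => rw [← Polynomial.X_mul_divX_add f, ← Polynomial.X_mul_divX_add f.divX]
  simp only [map_add, map_mul]
  rw [add_comm]
  congr 1
  rw [add_comm]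
  rfl

instance : IsLocalRing (CubeRing k) := by
  haveI : Nontrivial (CubeRing k) := (cubeRes k).toRingHom.domain_nontrivial
  refine IsLocalRing.of_nonunits_add fun a b ha hb => ?_
  have key : ∀ z : CubeRing k, IsUnit z ↔ cubeRes k z ≠ 0 := fun z => by
    refine ⟨fun h => (h.map (cubeRes k)).ne_zero, fun h => ?_⟩
    obtain ⟨c₀, c₁, r, rfl⟩ := exists_cube_coeff k z
    have hc : c₀ ≠ 0 := by
      rw [map_add, AlgHom.commutes, map_mul, cubeRes_t, zero_mul, add_zero] at h
      exact h
    refine IsNilpotent.isUnit_add_left_of_commute ⟨3, ?_⟩ (hc.isUnit.map (algebraMap k _)) (Commute.all _ _)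
    rw [mul_pow, cubeT_pow, zero_mul]
  simp only [mem_nonunits_iff, key, not_not, map_add] at *
  rw [ha, hb, add_zero]

instance : Module.Finite k (CubeRing k) := (Polynomial.monic_X_pow 3).finite_quotient

instance : IsArtinianRing (CubeRing k) := isArtinian_of_tower k inferInstance

/-- `k[t]/t³` as an object. -/
abbrev cube : Art k k :=
  { carrier := CubeRing k, res := cubeRes k,
    res_surjective := fun c => ⟨algebraMap k _ c, (cubeRes k).commutes c⟩ }

/-- `k[t]/t³ → k[ε]`. -/
def cubeHom : CubeRing k →ₐ[k] DualNumber k :=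
  Ideal.Quotient.liftₐ _ (Polynomial.aeval (R := k) (DualNumber.eps : DualNumber k)) fun z hz => by
    obtain ⟨q, rfl⟩ := Ideal.mem_span_singleton'.1 hz
    rw [map_mul, map_pow, Polynomial.aeval_X, pow_succ, pow_two, DualNumber.eps_mul_eps, zero_mul, mul_zero]

lemma cubeHom_t : cubeHom k (cubeT k) = DualNumber.eps := Polynomial.aeval_X _

lemma cubeHom_coeff (c₀ c₁ : k) (r : CubeRing k) :
    cubeHom k (algebraMap k _ c₀ + cubeT k * (algebraMap k _ c₁ + cubeT k * r)) =
      TrivSqZeroExt.inl c₀ + TrivSqZeroExt.inr c₁ := by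
  rw [map_add, map_mul, map_add, map_mul, AlgHom.commutes, AlgHom.commutes, cubeHom_t, mul_add, ← mul_assoc,
    DualNumber.eps_mul_eps, zero_mul, add_zero]
  have h : algebraMap k (DualNumber k) c₁ * DualNumber.eps = TrivSqZeroExt.inr c₁ := by
    rw [TrivSqZeroExt.algebraMap_eq_inl, show (DualNumber.eps : DualNumber k) = TrivSqZeroExt.inr 1 from rfl,
      TrivSqZeroExt.inl_mul_inr, smul_eq_mul, mul_one]
  rw [mul_comm DualNumber.eps, h, TrivSqZeroExt.algebraMap_eq_inl]

/-- The morphism `k[t]/t³ → k[ε]`. -/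
def cubeProj : cube k ⟶ Art.dual k k :=
  Art.homMk (cubeHom k) (by
    refine AlgHom.ext fun (z : CubeRing k) => ?_
    obtain ⟨c₀, c₁, r, rfl⟩ := exists_cube_coeff k z
    change TrivSqZeroExt.fst (cubeHom k _) = cubeRes k _
    rw [cubeHom_coeff, map_add, AlgHom.commutes, map_mul, cubeRes_t, zero_mul, add_zero]
    simp)

lemma ker_cubeHom : RingHom.ker (cubeHom k) = Ideal.span {cubeT k * cubeT k} := by
  refine le_antisymm (fun z hz => ?_) ?_
  · obtain ⟨c₀, c₁, r, rfl⟩ := exists_cube_coeff k z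
    have h : (TrivSqZeroExt.inl c₀ + TrivSqZeroExt.inr c₁ : DualNumber k) = 0 :=
      (cubeHom_coeff k c₀ c₁ r).symm.trans hz
    have h₀ : c₀ = 0 := by simpa using congrArg (fun m : DualNumber k => TrivSqZeroExt.fst m) h
    have h₁ : c₁ = 0 := by simpa using congrArg (fun m : DualNumber k => TrivSqZeroExt.snd m) h
    rw [Ideal.mem_span_singleton']
    exact ⟨r, by rw [h₀, h₁, map_zero, zero_add, zero_add]; ring⟩
  · rw [Ideal.span_le, Set.singleton_subset_iff, SetLike.mem_coe, RingHom.mem_ker, map_mul, cubeHom_t]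
    exact DualNumber.eps_mul_eps

lemma ker_cubeProj : RingHom.ker (cubeProj k).toAlgHom = Ideal.span {cubeT k * cubeT k} := ker_cubeHom k

lemma cube_mul_eq_zero (m : cube k) (hm : m ∈ 𝔪 (cube k)) : m * (cubeT k * cubeT k) = 0 := by
  obtain ⟨c₀, c₁, r, e⟩ := exists_cube_coeff k m
  have h : cubeRes k m = 0 := ((cube k).mem_maximalIdeal_iff m).1 hm
  have hc : c₀ = 0 := by
    rw [e, map_add, AlgHom.commutes, map_mul, cubeRes_t, zero_mul, add_zero] at h
    exact h
  change (show CubeRing k from m) * _ = 0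
  rw [e, hc, map_zero, zero_add]
  linear_combination (algebraMap k (CubeRing k) c₁ + cubeT k * r) * cubeT_pow k

lemma isSmallExt_cubeProj : Art.IsSmallExt (cubeProj k) := by
  refine ⟨fun d => ?_, ?_, ⟨⟨cubeT k * cubeT k, ker_cubeProj k⟩⟩, ?_⟩
  · exact ⟨(algebraMap k (CubeRing k) (TrivSqZeroExt.fst (show DualNumber k from d)) +
      cubeT k * (algebraMap k (CubeRing k) (TrivSqZeroExt.snd (show DualNumber k from d)) + cubeT k * 0) : CubeRing k),
      (cubeHom_coeff k _ _ _).trans (TrivSqZeroExt.inl_fst_add_inr_snd_eq _)⟩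
  · rw [ker_cubeProj, ne_eq, Ideal.span_singleton_eq_bot]
    intro h
    have h' : Ideal.Quotient.mk (Ideal.span {(Polynomial.X ^ 3 : Polynomial k)}) (Polynomial.X ^ 2) = 0 := by
      rw [map_pow, pow_two]; exact h
    rw [Ideal.Quotient.eq_zero_iff_mem, Ideal.mem_span_singleton] at h'
    have := Polynomial.natDegree_le_of_dvd h' (pow_ne_zero 2 Polynomial.X_ne_zero)
    simp at this
  · rw [ker_cubeProj, eq_bot_iff, Ideal.mul_le]
    intro m hm z hz
    obtain ⟨r, rfl⟩ := Ideal.mem_span_singleton'.1 hz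
    rw [Ideal.mem_bot, mul_left_comm, cube_mul_eq_zero k m hm, mul_zero]

end Cube

/-- The deformation functor of the node is not prorepresentable. -/
theorem node_not_prorepresentable :
    ¬ IsProrepresentable (defFunctor (Λ := k) (Spec (CommRingCat.of (NodeRing k))) (strMap k (NodeRing k))) := by
  rintro ⟨R⟩
  have hle := isLeftExact_of_universal R.family R.universal
  have h0 := (h0_of_universal R.family R.universal).2
  have hs := isSmallExt_cubeProj k
  have ht : (cube k).res (cubeT k) = 0 := by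
    exact cubeRes_t k
  have ht' : (Art.dual k k).res ((cubeProj k) (cubeT k)) = 0 := (Art.res_app _ _).trans ht
  obtain ⟨y', hy', hne⟩ := exists_ne_lift hle h0 hs (nodeDef (A := cube k) (cubeT k) ht).cl (node_eps_ne (k := k))
  rw [nodeDef_map_cl _ _ _ ht'] at hy'
  obtain ⟨D, rfl⟩ := DefAlg.exists_cl y'
  obtain ⟨φ⟩ := DefAlg.map_cl_eq_iff.1 hy'
  exact hne (node_lift_unique hs.1 ht ht (ker_cubeProj k) (cube_mul_eq_zero k) ht' D φ).symm

end Groth.ArtfunDeform
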