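import Groth.Agent.ArtfunDeform.AlgDef.Bridge
import Groth.Prelude.Def_Exal

/-!
Deformations of a rigid algebra are trivial.
-/

set_option linter.style.haveILetI false
set_option linter.style.longLine false
set_option linter.unusedSectionVars false

noncomputable section

universe u

open CategoryTheory TensorProduct

namespace Groth.ArtfunDeform

open ArtFun

local notation "𝔪" => IsLocalRing.maximalIdeal

variable {Λ k : Type u} [CommRing Λ] [Field k] [Algebra Λ k]
variable {B₀ : Type u} [CommRing B₀] [Algebra k B₀]

namespace DefAlg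

variable {A A' : Art Λ k}

/-- Transport along an equality of morphisms. -/
def Map.cast {g g' : A ⟶ A'} (h : g = g') {D : DefAlg B₀ A} {D' : DefAlg B₀ A'} (φ : Map g D D') :
    Map g' D D' :=
  ⟨φ.hom, fun a => by rw [φ.hom_algebraMap, h], φ.π_hom⟩

lemma Map.injective {g : A ⟶ A'} (hg : Function.Bijective g) {D : DefAlg B₀ A} {D' : DefAlg B₀ A'}
    (φ : Map g D D') : Function.Injective φ.hom := by
  rw [injective_iff_map_eq_zero]
  intro x hx
  have h : RingHom.ker g.toAlgHom = (⊥ : Ideal A) :=
    (RingHom.injective_iff_ker_eq_bot g.toAlgHom).1 hg.1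
  simpa [h] using φ.mem_ker hg.2 hx

/-- For a generator `t` of a small extension, `d ↦ t • d` factors through the reduction. -/
lemma smul_eq_of_π_eq (D : DefAlg B₀ A) {t : A} (htm : ∀ m ∈ 𝔪 A, m * t = 0) {d e : D.carrier}
    (h : D.π d = D.π e) : t • d = t • e := by
  have hde : d - e ∈ 𝔪 A • (⊤ : Submodule A D.carrier) := by
    rw [← π_eq_zero_iff, map_sub, h, sub_self]
  have h0 : t • (d - e) = 0 := by
    generalize d - e = w at hde ⊢
    induction hde using Submodule.smul_induction_on' with
    | smul r hr x _ => rw [smul_smul, mul_comm, htm r hr, zero_smul]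
    | add x _ y _ hx hy => rw [smul_add, hx, hy, add_zero]
  rwa [smul_sub, sub_eq_zero] at h0

/-- `b ↦ t • (lift of b)`. -/
def tInv (D : DefAlg B₀ A) (t : A) (b : B₀) : D.carrier := t • Function.surjInv D.π_surjective b

lemma tInv_π (D : DefAlg B₀ A) {t : A} (htm : ∀ m ∈ 𝔪 A, m * t = 0) (d : D.carrier) :
    D.tInv t (D.π d) = t • d :=
  D.smul_eq_of_π_eq htm (Function.surjInv_eq D.π_surjective _)

end DefAlg

section Rigid

variable {k : Type u} [Field k] {B₀ : Type u} [CommRing B₀] [Algebra k B₀]

open DefAlg in
/-- Lifting a trivialization along a small extension. -/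
theorem exists_map_self_of_smallExt (hT : ∀ E : Exal.Ext k B₀ B₀, E.IsTrivial) {A A' : Art k k}
    {p : A' ⟶ A} (hp : Art.IsSmallExt p) (D : DefAlg B₀ A') (s : Map (Art.ofBase A) (self B₀) (D.baseChange p)) :
    Nonempty (Map (Art.ofBase A') (self B₀) D) := by
  obtain ⟨hsurj, hne, ⟨t, ht⟩, hm⟩ := hp
  have ht0 : t ≠ 0 := fun h => hne (by rw [ht, h, Submodule.span_zero_singleton])
  have hpt : p t = 0 := by
    have : t ∈ RingHom.ker p.toAlgHom := ht ▸ Submodule.mem_span_singleton_self t
    exact this
  have htm : ∀ m ∈ 𝔪 A', m * t = 0 := fun m hm' => by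
    have := Ideal.mul_mem_mul hm' (ht ▸ Submodule.mem_span_singleton_self t : t ∈ RingHom.ker p.toAlgHom)
    rwa [hm, Ideal.mem_bot] at this
  have hres : A'.res t = 0 := by rw [← Art.res_app p t, hpt, map_zero]
  letI : Algebra k D.carrier := ((algebraMap A' D.carrier).comp (algebraMap k A')).toAlgebra
  let φ := D.toBaseChange p
  let S : Subalgebra k D.carrier :=
    { carrier := {x | φ.hom x = s.hom (D.π x)}
      mul_mem' := fun {x y} (hx : φ.hom x = _) (hy : φ.hom y = _) =>
        show φ.hom (x * y) = s.hom (D.π (x * y)) by rw [map_mul, map_mul, hx, hy]; exact (map_mul s.hom _ _).symm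
      one_mem' := show φ.hom 1 = s.hom (D.π 1) by rw [map_one, map_one]; exact (map_one s.hom).symm
      add_mem' := fun {x y} (hx : φ.hom x = _) (hy : φ.hom y = _) =>
        show φ.hom (x + y) = s.hom (D.π (x + y)) by rw [map_add, map_add, hx, hy]; exact (map_add s.hom _ _).symm
      zero_mem' := show φ.hom 0 = s.hom (D.π 0) by rw [map_zero, map_zero]; exact (map_zero s.hom).symm
      algebraMap_mem' := fun c => by
        change φ.hom (algebraMap A' D.carrier (algebraMap k A' c)) = s.hom (D.π (algebraMap A' D.carrier _))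
        rw [φ.hom_algebraMap, D.π_algebraMap, show A'.res (algebraMap k A' c) = c from A'.res.commutes c]
        refine Eq.trans ?_ (s.hom_algebraMap c).symm
        exact congrArg (algebraMap A _) (p.toAlgHom.commutes c) }
  let ι : B₀ →+ S :=
    { toFun := fun b => ⟨D.tInv t b, by
        change φ.hom (t • _) = s.hom (D.π (t • _))
        rw [φ.hom_smul, hpt, zero_smul, Algebra.smul_def, map_mul, D.π_algebraMap, hres, map_zero, zero_mul]
        exact (map_zero s.hom).symm⟩
      map_zero' := Subtype.ext (by
        change D.tInv t 0 = 0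
        rw [← map_zero D.π, D.tInv_π htm, smul_zero])
      map_add' := fun a b => Subtype.ext (by
        obtain ⟨d, rfl⟩ := D.π_surjective a
        obtain ⟨e, rfl⟩ := D.π_surjective b
        change D.tInv t (D.π d + D.π e) = D.tInv t (D.π d) + D.tInv t (D.π e)
        rw [← map_add, D.tInv_π htm, D.tInv_π htm, D.tInv_π htm, smul_add]) }
  let X : Exal.Ext k B₀ B₀ :=
    { E := S
      proj :=
        { toRingHom := D.π.comp S.val.toRingHom
          commutes' := fun c => (D.π_algebraMap _).trans (congrArg (algebraMap k B₀) (A'.res.commutes c)) }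
      incl := ι
      isExtension :=
        { proj_surjective := fun b => by
            obtain ⟨x, hx⟩ := φ.surjective hsurj (s.hom b)
            have hπ : D.π x = b := by
              rw [← φ.π_hom, hx, s.π_hom]
              rfl
            exact ⟨⟨x, show φ.hom x = s.hom (D.π x) by rw [hx, hπ]⟩, hπ⟩
          incl_injective := by
            rw [injective_iff_map_eq_zero]
            intro b hb
            obtain ⟨d, rfl⟩ := D.π_surjective b
            have h : D.tInv t (D.π d) = 0 := congrArg Subtype.val hb
            rw [D.tInv_π htm] at h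
            exact D.π_eq_zero_of_smul_eq_zero ht0 htm h
          exact := fun x => by
            constructor
            · intro hx
              have hx' : D.π x.1 = 0 := hx
              have h0 : φ.hom x.1 = 0 := by rw [x.2, hx']; exact map_zero s.hom
              have h := φ.mem_ker hsurj h0
              rw [ht] at h
              rw [← Ideal.span, Submodule.ideal_span_singleton_smul, Submodule.mem_smul_pointwise_iff_exists] at h
              obtain ⟨d, -, hd⟩ := h
              exact ⟨D.π d, Subtype.ext ((D.tInv_π htm d).trans hd)⟩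
            · rintro ⟨b, rfl⟩
              change D.π (t • _) = 0
              rw [Algebra.smul_def, map_mul, D.π_algebraMap, hres, map_zero, zero_mul]
          mul_incl := fun x b => Subtype.ext (by
            obtain ⟨d, rfl⟩ := D.π_surjective b
            change x.1 * D.tInv t (D.π d) = D.tInv t (D.π x.1 * D.π d)
            rw [← map_mul, D.tInv_π htm, D.tInv_π htm, mul_smul_comm]) } }
  obtain ⟨σ, hσ⟩ := hT X
  exact ⟨⟨(S.val.comp σ).toRingHom, fun c => (S.val.comp σ).commutes c, fun b => hσ b⟩⟩

open DefAlg in
/-- A rigid algebra has only trivial deformations. -/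
theorem exists_map_self (hT : ∀ E : Exal.Ext k B₀ B₀, E.IsTrivial) (A : Art k k) (D : DefAlg B₀ A) :
    Nonempty (Map (Art.ofBase A) (self B₀) D) := by
  suffices h : ∀ ⦃A B : Art k k⦄ (p : B ⟶ A), Function.Surjective p → ∀ D : DefAlg B₀ B,
      Nonempty (Map (Art.ofBase A) (self B₀) (D.baseChange p)) → Nonempty (Map (Art.ofBase B) (self B₀) D) by
    refine h (Art.toBase A) A.res_surjective D ?_
    let D₁ := D.baseChange (Art.toBase A)
    have hb : Function.Bijective D₁.π := by
      refine ⟨(RingHom.injective_iff_ker_eq_bot _).2 ?_, D₁.π_surjective⟩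
      have h : 𝔪 (Art.base k k) = ⊥ := IsLocalRing.maximalIdeal_eq_bot (R := k)
      rw [D₁.ker_π, h, Ideal.map_bot]
    refine ⟨⟨(RingEquiv.ofBijective D₁.π hb).symm.toRingHom, fun c => ?_, fun b => ?_⟩⟩
    · refine (RingEquiv.symm_apply_eq _).2 ?_
      exact (D₁.π_algebraMap ((Art.ofBase (Art.base k k)) c)).symm
    · exact (RingEquiv.ofBijective D₁.π hb).apply_symm_apply b
  intro A B p hp
  refine surj_induction (fun A B (p : B ⟶ A) => ∀ D : DefAlg B₀ B,
    Nonempty (Map (Art.ofBase A) (self B₀) (D.baseChange p)) → Nonempty (Map (Art.ofBase B) (self B₀) D))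
    ?_ ?_ ?_ p hp
  · rintro A B e he D ⟨s⟩
    haveI := he
    have hb : Function.Bijective e := bijective_of_isIso e
    let φ := D.toBaseChange e
    have hφ : Function.Bijective φ.hom := ⟨φ.injective hb, φ.surjective hb.2⟩
    refine ⟨⟨(RingEquiv.ofBijective φ.hom hφ).symm.toRingHom.comp s.hom, fun c => ?_, fun b => ?_⟩⟩
    · refine (RingEquiv.ofBijective φ.hom hφ).injective (((RingEquiv.ofBijective φ.hom hφ).apply_symm_apply _).trans ?_)
      refine (s.hom_algebraMap c).trans ?_
      refine Eq.trans ?_ (φ.hom_algebraMap _).symm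
      exact congrArg (algebraMap A _) (e.toAlgHom.commutes c).symm
    · refine (φ.π_hom _).symm.trans ?_
      refine (congrArg _ ((RingEquiv.ofBijective φ.hom hφ).apply_symm_apply _)).trans (s.π_hom b)
  · intro A B p hp D ⟨s⟩
    exact exists_map_self_of_smallExt hT hp D s
  · intro A B C p q hp hq D ⟨s⟩
    refine hp D (hq (D.baseChange p) ?_)
    obtain ⟨ψ, -⟩ := exists_map_of_map (((D.baseChange p).toBaseChange q).comp (D.toBaseChange p))
    exact ⟨(ψ.comp s).cast (Category.comp_id _)⟩

theorem cl_eq_trivial_cl (hT : ∀ E : Exal.Ext k B₀ B₀, E.IsTrivial) {A : Art k k} (D : DefAlg B₀ A) :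
    D.cl = (DefAlg.trivial B₀ A).cl := by
  obtain ⟨s⟩ := exists_map_self hT A D
  rw [← DefAlg.map_cl s, DefAlg.map_cl_baseChange]

end Rigid

end Groth.ArtfunDeform
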