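import Groth.Agent.ArtfunDeform.AlgDef.FirstOrder

/-!
The tangent space of the deformation functor of an algebra is `T¹`.
-/

set_option linter.style.haveILetI false
set_option linter.style.longLine false
set_option linter.unusedSectionVars false

noncomputable section

universe u

open CategoryTheory AlgebraicGeometry TensorProduct

namespace Groth.ArtfunDeform

open ArtFun CotT

local notation "𝔪" => IsLocalRing.maximalIdeal

variable {k B : Type u} [Field k] [CommRing B] [Algebra k B] {ι σ : Type u}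
variable (P : Algebra.Presentation k B ι σ)

/-- All deformations over `k` are trivial. -/
theorem DefAlg.subsingleton_base :
    Subsingleton ((defFunctor (Λ := k) (Spec (CommRingCat.of B)) (strMap k B)).obj (Art.base k k)) := by
  refine subsingleton_of_forall_eq (DefAlg.self B).cl fun q => ?_
  obtain ⟨D, rfl⟩ := DefAlg.exists_cl q
  exact DefAlg.cl_eq_iff.2 ⟨⟨D.π, fun a => D.π_algebraMap a, fun _ => rfl⟩⟩

/-- A lift of the generators gives a cocycle representing the extension. -/
theorem exists_repBy_of_lift (X : Exal.Ext k B B) (f : P.toExtension.Ring →ₐ[k] X.E)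
    (hf : ∀ r, X.proj (f r) = algebraMap P.toExtension.Ring B r) :
    ∃ ψ, RepBy P X ψ ∧ ∀ x : P.toExtension.ker, f x = X.incl (ψ (Algebra.Extension.Cotangent.mk x)) := by
  obtain ⟨ψ₀, f₀, hf₀, hψ₀⟩ := exists_repBy P X
  have hz : ∀ i : ι, X.proj (f (MvPolynomial.X i : P.Ring) - f₀ (MvPolynomial.X i : P.Ring)) = 0 := fun i => by
    rw [map_sub, hf, hf₀, sub_self]
  let χ : L0 P →ₗ[B] B := P.cotangentSpaceBasis.constr B fun i => X.kerLift _ (hz i)
  have hgf : f = twist X f₀ hf₀ χ := MvPolynomial.algHom_ext fun i => by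
    change f _ = f₀ _ + X.incl (χ _)
    have hb : χ ((1 : B) ⊗ₜ KaehlerDifferential.D k P.toExtension.Ring (MvPolynomial.X i : P.Ring)) =
        X.kerLift _ (hz i) := by
      refine (congrArg χ (Algebra.Generators.cotangentSpaceBasis_apply (P := P.toGenerators) i).symm).trans ?_
      exact P.cotangentSpaceBasis.constr_basis B _ i
    exact (eq_add_of_sub_eq' (Exal.Ext.incl_kerLift X _ (hz i)).symm).trans (by rw [hb])
  have h : ∀ x : P.toExtension.ker, f x =
      X.incl ((ψ₀ + χ ∘ₗ P.toExtension.cotangentComplex) (Algebra.Extension.Cotangent.mk x)) := fun x => by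
    rw [hgf, LinearMap.add_apply, map_add, LinearMap.comp_apply, ← diffPart_ker, ← hψ₀]
    rfl
  exact ⟨_, ⟨f, hf, h⟩, h⟩

/-- Push out along a morphism to `k[ε]`, with its cocycle. -/
theorem exists_push {A : Art k k} (u : A ⟶ Art.dual k k) (D : DefAlg B A) (w : ι → D.carrier)
    (hw : ∀ i, D.π (w i) = P.val i) :
    ∃ (X : Exal.Ext k B B) (h : DefAlg.Map u D (ofExt X)) (ψ : P.toExtension.Cotangent →ₗ[B] B),
      RepBy P X ψ ∧ ∀ x : P.toExtension.ker, X.incl (ψ (Algebra.Extension.Cotangent.mk x)) =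
        h.hom (MvPolynomial.eval₂Hom ((algebraMap A D.carrier).comp (algebraMap k A)) w (x : P.toExtension.Ring)) := by
  obtain ⟨D', hD'⟩ := DefAlg.exists_cl ((defFunctor (Spec (CommRingCat.of B)) (strMap k B)).map u D.cl)
  obtain ⟨X, hX⟩ := exists_ofExt D'
  obtain ⟨h⟩ := DefAlg.map_cl_eq_iff.1 (hX.trans hD').symm
  let Φ : P.toExtension.Ring →+* D.carrier := MvPolynomial.eval₂Hom ((algebraMap A D.carrier).comp (algebraMap k A)) w
  have hc : ∀ c : k, h.hom (algebraMap A D.carrier (algebraMap k A c)) = algebraMap k X.E c := fun c => by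
    rw [h.hom_algebraMap, show u (algebraMap k A c) = algebraMap k (Art.dual k k) c from u.toAlgHom.commutes c]
    exact (dualToExt X).commutes c
  let f : P.toExtension.Ring →ₐ[k] X.E := MvPolynomial.aeval fun i => h.hom (w i)
  have hfΦ : ∀ r : P.toExtension.Ring, f r = h.hom (Φ r) := fun r => RingHom.congr_fun
    (MvPolynomial.ringHom_ext (f := f.toRingHom) (g := h.hom.comp Φ)
      (fun c => (f.commutes c).trans
        ((hc c).symm.trans (congrArg h.hom
          (MvPolynomial.eval₂Hom_C ((algebraMap A D.carrier).comp (algebraMap k A)) w c).symm)))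
      (fun i => (MvPolynomial.aeval_X _ i).trans (congrArg h.hom
          (MvPolynomial.eval₂Hom_X' ((algebraMap A D.carrier).comp (algebraMap k A)) w i).symm))) r
  have hf : ∀ r, X.proj (f r) = algebraMap P.toExtension.Ring B r := fun r => by
    refine Eq.trans ?_ (algebraMap_toExtension P r).symm
    exact congrArg (fun g : MvPolynomial ι k →ₐ[k] B => g r) (MvPolynomial.algHom_ext (f := X.proj.comp f)
      (g := MvPolynomial.aeval P.val) fun i => by
        change X.proj (MvPolynomial.aeval (fun j => h.hom (w j)) (MvPolynomial.X i)) = _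
        rw [MvPolynomial.aeval_X, MvPolynomial.aeval_X]
        exact (h.π_hom _).trans (hw i))
  obtain ⟨ψ, hψ, hψ'⟩ := exists_repBy_of_lift P X f hf
  exact ⟨X, h, ψ, hψ, fun x => (hψ' x).symm.trans (hfΦ _)⟩

lemma tsze_inr_eq {M : Type u} [AddCommGroup M] [Module k M] [Module kᵐᵒᵖ M] [SMulCommClass k kᵐᵒᵖ M]
    [IsCentralScalar k M] [IsScalarTower k k M] [IsScalarTower k kᵐᵒᵖ M] (φ : M →ₗ[k] k) (v : M) {c : k}
    (h : φ v = c) :
    (Art.tszeMap φ : TrivSqZeroExt k M →ₐ[k] TrivSqZeroExt k k) (TrivSqZeroExt.inr v) =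
      algebraMap k (DualNumber k) c * DualNumber.eps := by
  rw [TrivSqZeroExt.algebraMap_eq_inl, DualNumber.eps, TrivSqZeroExt.inl_mul_inr]
  refine TrivSqZeroExt.ext rfl ?_
  rw [Art.snd_tszeMap, TrivSqZeroExt.snd_inr, TrivSqZeroExt.snd_inr, h, smul_eq_mul, mul_one]

lemma tsze_decomp (m : TrivSqZeroExt k (k × k)) (h : TrivSqZeroExt.fst m = 0) :
    algebraMap k (TrivSqZeroExt k (k × k)) (TrivSqZeroExt.snd m).1 * TrivSqZeroExt.inr (1, 0) +
      algebraMap k (TrivSqZeroExt k (k × k)) (TrivSqZeroExt.snd m).2 * TrivSqZeroExt.inr (0, 1) = m := by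
  rw [TrivSqZeroExt.algebraMap_eq_inl, TrivSqZeroExt.inl_mul_inr, TrivSqZeroExt.inl_mul_inr,
    ← TrivSqZeroExt.inr_add]
  refine TrivSqZeroExt.ext h.symm ?_
  rw [TrivSqZeroExt.snd_inr]
  exact Prod.ext (by simp) (by simp)

/-- A map to an extension on multiples of elements going to `c ε`. -/
theorem Map_hom_eps {A : Art k k} {u : A ⟶ Art.dual k k} {D : DefAlg B A} {X : Exal.Ext k B B}
    (h : DefAlg.Map u D (ofExt X)) {a : A} {c : k}
    (ha : u a = algebraMap k (DualNumber k) c * DualNumber.eps) (d : D.carrier) :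
    h.hom (algebraMap A D.carrier a * d) = X.incl (c • D.π d) := by
  rw [map_mul, h.hom_algebraMap, ha]
  refine (congrArg (· * h.hom d) ((map_mul (dualToExt X) _ _).trans (congrArg (· * _) ((dualToExt X).commutes c)))).trans ?_
  change algebraMap k X.E c * dualToExt X DualNumber.eps * h.hom d = _
  rw [mul_assoc, dualToExt_mul, X.isExtension.mul_incl, AlgHom.commutes]
  exact congrArg X.incl ((congrArg (algebraMap k B c * ·) (h.π_hom d)).trans (Algebra.smul_def c _).symm)

/-- `t_{Def} = T¹`, linearly. -/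
theorem exists_tangent_t1 :
    ∃ τ : (defFunctor (Λ := k) (Spec (CommRingCat.of B)) (strMap k B)).obj (Art.dual k k) → T1 P B,
      Function.Bijective τ ∧
      (∀ c q, τ ((defFunctor _ _).map (Art.scale c) q) = c • τ q) ∧
      ∀ z, τ ((defFunctor _ _).map Art.plus z) =
        τ ((defFunctor _ _).map Art.pr₁ z) + τ ((defFunctor _ _).map Art.pr₂ z) := by
  classical
  let F := defFunctor (Λ := k) (Spec (CommRingCat.of B)) (strMap k B)
  have hex : ∀ q : F.obj (Art.dual k k), ∃ X : Exal.Ext k B B, (ofExt X).cl = q := fun q => by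
    obtain ⟨D, rfl⟩ := DefAlg.exists_cl q
    exact exists_ofExt D
  choose Xq hXq using hex
  choose ψq hψq using fun q => exists_repBy P (Xq q)
  let τ : F.obj (Art.dual k k) → T1 P B := fun q => homToT1 P B (ψq q)
  have spec : ∀ q X ψ, (ofExt X).cl = q → RepBy P X ψ → τ q = homToT1 P B ψ := fun q X ψ hX hψ => by
    obtain ⟨φ⟩ := DefAlg.cl_eq_iff.1 ((hXq q).trans hX.symm)
    obtain ⟨e⟩ := equiv_of_map φ
    exact RepBy.homToT1_eq ((hψq q).of_equiv e) hψ
  refine ⟨τ, ⟨fun q q' h => ?_, fun t => ?_⟩, fun c q => ?_, fun z => ?_⟩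
  · obtain ⟨e⟩ := RepBy.equiv ((hψq q).of_homToT1_eq h) (hψq q')
    rw [← hXq q, ← hXq q']
    exact DefAlg.cl_eq_iff.2 ⟨equivToMap e⟩
  · obtain ⟨φ, rfl⟩ := homToT1_surjective P B t
    obtain ⟨X, hX⟩ := exists_ext P φ
    exact ⟨(ofExt X).cl, spec _ X φ rfl hX⟩
  · obtain ⟨f, hf, hψ⟩ := hψq q
    obtain ⟨X', h, ψ', hψ', hψ''⟩ := exists_push P (Art.scale c) (ofExt (Xq q))
      (fun i => f (MvPolynomial.X i : P.Ring)) fun i =>
        (hf _).trans ((algebraMap_toExtension P _).trans (MvPolynomial.aeval_X _ i))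
    rw [← hXq q, DefAlg.map_cl h, spec _ X' ψ' rfl hψ', hXq q]
    refine Eq.trans (congrArg _ ?_) ((homToT1 P B).map_smul_of_tower c (ψq q))
    refine LinearMap.ext fun y => ?_
    obtain ⟨x, rfl⟩ := Algebra.Extension.Cotangent.mk_surjective y
    refine X'.isExtension.incl_injective ((hψ'' x).trans ?_)
    have hΦ : MvPolynomial.eval₂Hom ((@algebraMap (Art.dual k k) (ofExt (Xq q)).carrier _ _ (ofExt (Xq q)).algebra).comp (algebraMap k (Art.dual k k)))
        (fun i => f (MvPolynomial.X i : P.Ring)) (x : P.toExtension.Ring) = f x := RingHom.congr_fun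
      (MvPolynomial.ringHom_ext (g := f.toRingHom)
        (fun a => (MvPolynomial.eval₂Hom_C _ _ a).trans (((dualToExt (Xq q)).commutes a).trans (f.commutes a).symm))
        (fun i => MvPolynomial.eval₂Hom_X' _ _ i)) _
    rw [hΦ, hψ, LinearMap.smul_apply]
    obtain ⟨w, hw⟩ := (Xq q).isExtension.proj_surjective (ψq q (Algebra.Extension.Cotangent.mk x))
    rw [← hw, ← dualToExt_mul]
    refine Map_hom_eps h (a := (DualNumber.eps : DualNumber k)) ?_ w
    exact tsze_inr_eq (c • LinearMap.id) (1 : k) (mul_one c)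
  · obtain ⟨D, rfl⟩ := DefAlg.exists_cl z
    choose w hw using fun i => D.π_surjective (P.val i)
    obtain ⟨X₁, h₁, ψ₁, hψ₁, e₁⟩ := exists_push P Art.pr₁ D w hw
    obtain ⟨X₂, h₂, ψ₂, hψ₂, e₂⟩ := exists_push P Art.pr₂ D w hw
    obtain ⟨X₃, h₃, ψ₃, hψ₃, e₃⟩ := exists_push P Art.plus D w hw
    rw [DefAlg.map_cl h₁, DefAlg.map_cl h₂, DefAlg.map_cl h₃, spec _ X₁ ψ₁ rfl hψ₁, spec _ X₂ ψ₂ rfl hψ₂,
      spec _ X₃ ψ₃ rfl hψ₃, ← map_add]
    refine congrArg _ (LinearMap.ext fun y => ?_)
    obtain ⟨x, rfl⟩ := Algebra.Extension.Cotangent.mk_surjective y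
    rw [LinearMap.add_apply]
    let a₁ : Art.dual2 k k := (TrivSqZeroExt.inr (1, 0) : TrivSqZeroExt k (k × k))
    let a₂ : Art.dual2 k k := (TrivSqZeroExt.inr (0, 1) : TrivSqZeroExt k (k × k))
    let Φ : P.toExtension.Ring →+* D.carrier :=
      MvPolynomial.eval₂Hom ((algebraMap (Art.dual2 k k) D.carrier).comp (algebraMap k (Art.dual2 k k))) w
    have hx0 : D.π (Φ x) = 0 := by
      refine Eq.trans (RingHom.congr_fun (MvPolynomial.ringHom_ext (f := D.π.comp Φ)
        (g := (MvPolynomial.aeval P.val).toRingHom) (fun c => ?_) (fun i => ?_)) _)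
        ((algebraMap_toExtension P _).symm.trans x.2)
      · change D.π (Φ (MvPolynomial.C c)) = MvPolynomial.aeval P.val (MvPolynomial.C c)
        refine (congrArg D.π (MvPolynomial.eval₂Hom_C _ w c)).trans ?_
        rw [MvPolynomial.aeval_C, RingHom.comp_apply, D.π_algebraMap, AlgHom.commutes]
        rfl
      · change D.π (Φ (MvPolynomial.X i)) = MvPolynomial.aeval P.val (MvPolynomial.X i)
        refine (congrArg D.π (MvPolynomial.eval₂Hom_X' _ w i)).trans ?_
        rw [MvPolynomial.aeval_X, hw]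
    have hle : 𝔪 (Art.dual2 k k) ≤ Ideal.span {a₁, a₂} := fun m hm => by
      have h0 : TrivSqZeroExt.fst (show TrivSqZeroExt k (k × k) from m) = 0 :=
        ((Art.dual2 k k).mem_maximalIdeal_iff m).1 hm
      rw [Ideal.mem_span_pair]
      refine ⟨algebraMap k (TrivSqZeroExt k (k × k)) (TrivSqZeroExt.snd (show TrivSqZeroExt k (k × k) from m)).1,
        algebraMap k (TrivSqZeroExt k (k × k)) (TrivSqZeroExt.snd (show TrivSqZeroExt k (k × k) from m)).2, ?_⟩
      exact tsze_decomp _ h0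
    have hmem : Φ x ∈ Ideal.span {algebraMap (Art.dual2 k k) D.carrier a₁, algebraMap _ D.carrier a₂} := by
      have hker : Φ x ∈ (𝔪 (Art.dual2 k k)).map (algebraMap (Art.dual2 k k) D.carrier) := D.ker_π.le hx0
      have := Ideal.map_mono hle hker
      rwa [Ideal.map_span, Set.image_pair] at this
    obtain ⟨d₁, d₂, hd⟩ := Ideal.mem_span_pair.1 hmem
    have key : ∀ {u : Art.dual2 k k ⟶ Art.dual k k} {X : Exal.Ext k B B} (h : DefAlg.Map u D (ofExt X))
        (c₁ c₂ : k), u a₁ = algebraMap k (DualNumber k) c₁ * DualNumber.eps →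
        u a₂ = algebraMap k (DualNumber k) c₂ * DualNumber.eps →
        h.hom (Φ x) = X.incl (c₁ • D.π d₁ + c₂ • D.π d₂) := fun h c₁ c₂ hu₁ hu₂ => by
      rw [← hd, mul_comm d₁, mul_comm d₂, map_add, Map_hom_eps h hu₁, Map_hom_eps h hu₂, map_add]
    have r₁ : ψ₁ (Algebra.Extension.Cotangent.mk x) = D.π d₁ := X₁.isExtension.incl_injective ((e₁ x).trans
      ((key h₁ 1 0 (tsze_inr_eq (LinearMap.fst k k k) _ rfl)
        (tsze_inr_eq (LinearMap.fst k k k) _ rfl)).trans (by rw [one_smul, zero_smul, add_zero])))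
    have r₂ : ψ₂ (Algebra.Extension.Cotangent.mk x) = D.π d₂ := X₂.isExtension.incl_injective ((e₂ x).trans
      ((key h₂ 0 1 (tsze_inr_eq (LinearMap.snd k k k) _ rfl)
        (tsze_inr_eq (LinearMap.snd k k k) _ rfl)).trans (by rw [one_smul, zero_smul, zero_add])))
    rw [r₁, r₂]
    exact X₃.isExtension.incl_injective ((e₃ x).trans
      ((key h₃ 1 1 (tsze_inr_eq (LinearMap.fst k k k + LinearMap.snd k k k) _ (by simp))
        (tsze_inr_eq (LinearMap.fst k k k + LinearMap.snd k k k) _ (by simp))).trans (by rw [one_smul, one_smul])))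

end Groth.ArtfunDeform
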